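import Mathlib

/-!
# An exhaustive search for sums of vectors from a list

`search n t vs = false` shows that `t` is not a sum of members of `vs`.
-/

set_option autoImplicit false

namespace Cfsg.Lib.Chev.VecSearch

/-- Pointwise comparison on the common coordinates. -/
def leB : List ℕ → List ℕ → Bool
  | a :: t, b :: v => Nat.ble b a && leB t v
  | _, _ => true

/-- Pointwise difference. -/
def sub : List ℕ → List ℕ → List ℕ
  | a :: t, b :: v => (a - b) :: sub t v
  | t, _ => t

/-- A coordinate to be covered. -/
def pick (t : List ℕ) : Option ℕ :=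
  ((List.range t.length).filter fun j => j ≠ 0 ∧ j + 2 ≠ t.length).find? fun j => t.getD j 0 ≠ 0

/-- The property of the vectors with nothing to cover. -/
def flat (v : List ℕ) : Bool :=
  ((List.range v.length).all fun j => j = 0 || j + 2 = v.length || v.getD j 0 = 0) →
    v.getD 0 0 = v.getD (v.length - 2) 0

/-- The search. -/
def search : ℕ → List ℕ → List (List ℕ) → Bool
  | 0, _, _ => true
  | n + 1, t, vs =>
    match pick t with
    | none => t.getD 0 0 == t.getD (t.length - 2) 0
    | some j =>
      let us := vs.filter (leB t)
      let c := us.filter fun v => v.getD j 0 != 0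
      let rest := us.filter fun v => v.getD j 0 == 0
      c.tails.any fun l => match l with
        | [] => false
        | v :: l' => search n (sub t v) (v :: l' ++ rest)

theorem sub_getD : ∀ (t v : List ℕ) (j : ℕ), (sub t v).getD j 0 = t.getD j 0 - v.getD j 0
  | [], v, j => by simp [sub]
  | a :: t, [], j => by simp [sub]
  | a :: t, b :: v, 0 => by simp [sub]
  | a :: t, b :: v, j + 1 => by simpa [sub] using sub_getD t v j

theorem sub_length : ∀ t v : List ℕ, (sub t v).length = t.length
  | [], v => by simp [sub]
  | a :: t, [] => by simp [sub]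
  | a :: t, b :: v => by simp [sub, sub_length t v]

theorem leB_of_le : ∀ t v : List ℕ, (∀ j, v.getD j 0 ≤ t.getD j 0) → leB t v = true
  | [], v, _ => by simp [leB]
  | a :: t, [], _ => by simp [leB]
  | a :: t, b :: v, h => by
    simp only [leB, Bool.and_eq_true, Nat.ble_eq]
    exact ⟨h 0, leB_of_le t v fun j => h (j + 1)⟩

theorem search_sound {d : ℕ} (hd : 2 ≤ d) : ∀ (n : ℕ) (t : List ℕ) (vs : List (List ℕ)) (xs : Multiset (List ℕ)),
    t.length = d → (∀ v ∈ vs, v.length = d ∧ flat v = true) → (∀ v ∈ xs, v ∈ vs) →
    (∀ j, t.getD j 0 = (xs.map fun v => v.getD j 0).sum) → search n t vs = true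
  | 0, _, _, _, _, _, _, _ => rfl
  | n + 1, t, vs, xs, ht, hvs, hxs, hsum => by
    have hle : ∀ v ∈ xs, ∀ j, v.getD j 0 ≤ t.getD j 0 := fun v hv j => by
      rw [hsum j, ← Multiset.cons_erase hv, Multiset.map_cons, Multiset.sum_cons]
      exact Nat.le_add_right _ _
    rw [search]
    cases hp : pick t with
    | none =>
      simp only [beq_iff_eq]
      rw [pick, List.find?_eq_none] at hp
      have h0 : ∀ v ∈ xs, v.getD 0 0 = v.getD (t.length - 2) 0 := by
        intro v hv
        obtain ⟨hvl, hflat⟩ := hvs v (hxs v hv)
        simp only [flat, decide_eq_true_eq] at hflat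
        rw [hflat ?_, hvl, ht]
        simp only [List.all_eq_true, List.mem_range, Bool.or_eq_true, decide_eq_true_eq]
        intro j hj
        by_contra hc
        push Not at hc
        have h1 := hp j (by simp [hc.1.1]; omega)
        simp only [ne_eq, decide_not, Bool.not_eq_true', decide_eq_false_iff_not, not_not] at h1
        have := hle v hv j
        omega
      rw [hsum, hsum]
      exact congrArg Multiset.sum (Multiset.map_congr rfl h0)
    | some j =>
      simp only
      have hj : t.getD j 0 ≠ 0 := by
        rw [pick] at hp
        have h := List.find?_some hp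
        simpa using h
      set us := vs.filter (leB t) with hus
      set c := us.filter fun v => v.getD j 0 != 0 with hc
      set rest := us.filter fun v => v.getD j 0 == 0 with hrest
      have hxus : ∀ v ∈ xs, v ∈ us := fun v hv => by
        rw [hus, List.mem_filter]
        exact ⟨hxs v hv, leB_of_le t v (hle v hv)⟩
      obtain ⟨w, hw, hwj⟩ : ∃ w ∈ xs, w.getD j 0 ≠ 0 := by
        by_contra h
        push Not at h
        apply hj
        rw [hsum j, Multiset.sum_eq_zero]
        intro x hx
        obtain ⟨v, hv, rfl⟩ := Multiset.mem_map.1 hx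
        exact h v hv
      have hex : (c.find? fun v => decide (v ∈ xs)).isSome := by
        rw [List.find?_isSome]
        exact ⟨w, by rw [hc, List.mem_filter]; exact ⟨hxus w hw, by simpa using hwj⟩, by simpa using hw⟩
      obtain ⟨v, hv⟩ := Option.isSome_iff_exists.1 hex
      obtain ⟨hvx, l1, l2, hl, hl1⟩ := List.find?_eq_some_iff_append.1 hv
      have hvx' : v ∈ xs := by simpa using hvx
      rw [List.any_eq_true]
      refine ⟨v :: l2, (List.mem_tails _ _).2 ⟨l1, hl.symm⟩, ?_⟩
      simp only
      have hmem : ∀ u ∈ v :: l2 ++ rest, u ∈ vs := by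
        intro u hu
        have h1 : u ∈ us := by
          rcases List.mem_append.1 hu with hu | hu
          · exact (List.mem_filter.1 (hc ▸ hl ▸ List.mem_append_right l1 hu)).1
          · exact (List.mem_filter.1 hu).1
        exact (List.mem_filter.1 h1).1
      refine search_sound hd n _ _ (xs.erase v) (by rw [sub_length, ht]) (fun u hu => hvs u (hmem u hu))
        (fun u hu => ?_) fun i => ?_
      · have hu' := Multiset.mem_of_mem_erase hu
        by_cases huj : u.getD j 0 = 0
        · exact List.mem_append_right _ (by rw [hrest, List.mem_filter]; exact ⟨hxus u hu', by simpa using huj⟩)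
        · refine List.mem_append_left _ ?_
          have huc : u ∈ l1 ++ v :: l2 := by
            rw [← hl, hc, List.mem_filter]
            exact ⟨hxus u hu', by simpa using huj⟩
          rcases List.mem_append.1 huc with h | h
          · exact absurd hu' (by simpa using hl1 u h)
          · exact h
      · rw [sub_getD, hsum i]
        conv_lhs => rw [← Multiset.cons_erase hvx', Multiset.map_cons, Multiset.sum_cons]
        exact Nat.add_sub_cancel_left _ _

end Cfsg.Lib.Chev.VecSearch
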