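import Cfsg.Agent.Lib.Linear.TwistPower.Exponents
import Cfsg.Agent.Lib.Chev.E8Spectrum.Search

/-!
# Sums of orbit vectors of twisted products
-/

set_option autoImplicit false

namespace Cfsg.Lib.Chev.E8Spec

open Cfsg.Lib.Linear.TwistPower Cfsg.Lib.Chev.VecSearch

instance instDecidableIsOrbit {p f : ℕ} [NeZero f] (x : (Fin f → ℕ) × ℕ) : Decidable (IsOrbit p x) := by
  unfold IsOrbit; infer_instance

/-- Multiplicities at chosen residues. -/
def cnts (reps : List ℕ) (l : List ℕ) : List ℕ := reps.map fun m => l.count m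

/-- The multiplicities on an orbit. -/
def vecOf (r : ℕ) (reps : List ℕ) {f : ℕ} [NeZero f] (x : (Fin f → ℕ) × ℕ) : List ℕ :=
  cnts reps (orbExp r 3 x) ++ cnts [0, 2] (orbExp 4 3 x)

/-- All multiplicities below `r`. -/
def hist (r : ℕ) (l : List ℕ) : List ℕ := (List.range r).map fun m => l.count m

/-- The multiplicities packed in one number. -/
def pack (l : List ℕ) : ℕ := (l.map fun n => 256 ^ n).sum

/-- A list of multiplicities packed in one number. -/
def packHist (r : ℕ) (h : List ℕ) : ℕ := ((List.range r).map fun m => h.getD m 0 * 256 ^ m).sum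

theorem pack_eq {r : ℕ} (l : List ℕ) (hl : ∀ n ∈ l, n < r) :
    pack l = ∑ m : Fin r, l.count (m : ℕ) * 256 ^ (m : ℕ) := by
  induction l with
  | nil => simp [pack]
  | cons a l ih =>
    have ha := hl a List.mem_cons_self
    rw [show pack (a :: l) = 256 ^ a + pack l from by simp [pack],
      ih fun n hn => hl n (List.mem_cons_of_mem _ hn)]
    simp only [List.count_cons, add_mul, Finset.sum_add_distrib]
    rw [add_comm]
    congr 1
    rw [Finset.sum_eq_single (⟨a, ha⟩ : Fin r)]
    · simp
    · intro m _ hm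
      have : a ≠ (m : ℕ) := fun h => hm (Fin.ext h.symm)
      simp [this]
    · simp

/-- Membership of a histogram from the packed numbers. -/
theorem hist_mem {r : ℕ} {hists : List (List ℕ)} {l : List ℕ} (hl : ∀ n ∈ l, n < r)
    (hlen : l.length < 256) (hh : ∀ h ∈ hists, h.length = r ∧ ∀ n ∈ h, n < 256)
    (hp : pack l ∈ hists.map (packHist r)) : hist r l ∈ hists := by
  obtain ⟨h, hmem, he⟩ := List.mem_map.1 hp
  obtain ⟨hlr, hlt⟩ := hh h hmem
  rw [packHist, pack_eq l hl, ← List.sum_toFinset _ List.nodup_range, List.toFinset_range,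
    ← Fin.sum_univ_eq_sum_range (fun m => h.getD m 0 * 256 ^ m)] at he
  convert hmem
  refine List.ext_getElem (by simp [hist, hlr]) fun m hm _ => ?_
  have hmr : m < r := hlr ▸ by assumption
  have key := finFunctionFinEquiv.injective (a₁ := fun i : Fin r => (⟨l.count (i : ℕ), lt_of_le_of_lt List.count_le_length hlen⟩ : Fin 256))
    (a₂ := fun i : Fin r => (⟨h[(i : ℕ)]'(hlr ▸ i.2), hlt _ (List.getElem_mem _)⟩ : Fin 256)) (Fin.ext ?_)
  · simpa [hist] using congrArg Fin.val (congrFun key ⟨m, hmr⟩)
  · rw [finFunctionFinEquiv_apply_val, finFunctionFinEquiv_apply_val, ← he]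
    exact Finset.sum_congr rfl fun i _ => by simp [hlr, i.2]

theorem count_map_mul {r i d : ℕ} (hid : i * d % r = 1) (l : List ℕ) (hl : ∀ n ∈ l, n < r) {m : ℕ}
    (hm : m < r) : (l.map fun n => i * n % r).count m = l.count (d * m % r) := by
  have key : ∀ n < r, d * (i * n % r) % r = n ∧ i * (d * n % r) % r = n := fun n hn => by
    have hdi : d * i % r = 1 := by rw [mul_comm]; exact hid
    constructor
    · rw [Nat.mul_mod_mod, ← mul_assoc, Nat.mul_mod, hdi, one_mul, Nat.mod_mod, Nat.mod_eq_of_lt hn]
    · rw [Nat.mul_mod_mod, ← mul_assoc, Nat.mul_mod, hid, one_mul, Nat.mod_mod, Nat.mod_eq_of_lt hn]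
  induction l with
  | nil => rfl
  | cons a l ih =>
    rw [List.map_cons, List.count_cons, List.count_cons, ih fun n hn => hl n (List.mem_cons_of_mem _ hn)]
    have ha := hl a List.mem_cons_self
    congr 1
    by_cases h : i * a % r = m
    · subst h; simp [(key a ha).1]
    · have h' : a ≠ d * m % r := fun e => h (e ▸ (key m hm).2)
      simp [h, h']

theorem exists_rescale {r : ℕ} (hr : r.Prime) {reps : List ℕ} (hreps : ∀ m ∈ reps, m < r) {i : ℕ}
    (hi : Nat.Coprime i r) (l : List ℕ) (hl : ∀ n ∈ l, n < r) :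
    ∃ c < r, c ≠ 0 ∧ cnts reps (l.map fun n => i * n % r) =
      reps.map fun m => (hist r l).getD (c * m % r) 0 := by
  obtain ⟨d, hd⟩ := Nat.exists_mul_mod_eq_one_of_coprime hi hr.one_lt
  refine ⟨d, hd.1, fun h => ?_, List.map_congr_left fun m hm => ?_⟩
  · simp [h] at hd
  · rw [count_map_mul hd.2 l hl (hreps m hm)]
    simp [hist, Nat.mod_lt _ hr.pos]

theorem count_flatMap_sum {α : Type*} (L : List α) (E : α → List ℕ) (m : ℕ) :
    (L.flatMap E).count m = (L.map fun x => (E x).count m).sum := by
  induction L with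
  | nil => rfl
  | cons a L ih => simp [List.count_append, ih]

theorem cnts_getD (reps : List ℕ) (l : List ℕ) (j : ℕ) :
    (cnts reps l).getD j 0 = if h : j < reps.length then l.count reps[j] else 0 := by
  split_ifs with h <;> simp [cnts, h]

theorem even_wsum_shift {f : ℕ} [NeZero f] (a : Fin f → ℕ) :
    Even (wsum 3 (shift a)) ↔ Even (wsum 3 a) := by
  have h : ∀ b : Fin f → ℕ, (Even (wsum 3 b) ↔ Even (∑ i, b i)) := fun b => by
    rw [Nat.even_iff, Nat.even_iff, wsum, Finset.sum_nat_mod, Finset.sum_nat_mod _ _ b]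
    simp [Nat.mul_mod, Nat.pow_mod]
  rw [h, h]
  exact iff_of_eq (congrArg Even ((Equiv.subRight (1 : Fin f)).sum_comp a))

theorem count_orbExp_shift {f : ℕ} [NeZero f] (N : ℕ) (a : Fin f → ℕ) (k m : ℕ)
    (hper : shift^[k] a = a) :
    (orbExp N 3 (shift a, k)).count m = (orbExp N 3 (a, k)).count m := by
  let G : (Fin f → ℕ) → ℕ := fun b =>
    (boxL N (List.ofFn fun j : Fin f => (b j, 3 ^ (j : ℕ)))).count m
  have h : ∀ b, (orbExp N 3 (b, k)).count m = ∑ i ∈ Finset.range k, G (shift^[i] b) := fun b => by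
    rw [orbExp, count_flatMap_sum, ← List.toFinset_range, List.sum_toFinset _ List.nodup_range]
  rw [h, h]
  have h1 := (Finset.sum_range_succ' (fun i => G (shift^[i] a)) k).symm.trans
    (Finset.sum_range_succ (fun i => G (shift^[i] a)) k)
  rw [hper, Function.iterate_zero_apply] at h1
  simp only [← Function.iterate_succ_apply]
  exact Nat.add_right_cancel h1

/-- An orbit through a representative of least weight. -/
theorem exists_least {f : ℕ} [NeZero f] (r : ℕ) (reps : List ℕ) (x : (Fin f → ℕ) × ℕ)
    (ho : IsOrbit 3 x) (he : Even (wsum 3 x.1)) :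
    ∃ b : Fin f → ℕ, IsOrbit 3 (b, x.2) ∧ Even (wsum 3 b) ∧ (∀ i < f, wsum 3 b ≤ wsum 3 (shift^[i] b)) ∧
      vecOf r reps (b, x.2) = vecOf r reps x := by
  obtain ⟨a, k⟩ := x
  obtain ⟨ha, hk, hkf, hper, hmin⟩ := ho
  obtain ⟨i, hi, hle⟩ := Finset.exists_min_image (Finset.range f) (fun i => wsum 3 (shift^[i] a))
    ⟨0, Finset.mem_range.2 (NeZero.pos f)⟩
  have hif : i ≤ f := (Finset.mem_range.1 hi).le
  have hback : shift^[f - i] (shift^[i] a) = a := by
    rw [← Function.iterate_add_apply, Nat.sub_add_cancel hif, shift_period]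
  have hcomm : ∀ (n : ℕ) (b : Fin f → ℕ), shift^[n] (shift^[i] b) = shift^[i] (shift^[n] b) :=
    fun n b => by rw [← Function.iterate_add_apply, add_comm, Function.iterate_add_apply]
  refine ⟨shift^[i] a, ⟨shift_lt ha i, hk, hkf, by rw [hcomm, hper], fun n hn hn0 h => ?_⟩, ?_,
    fun n hn => ?_, ?_⟩
  · refine hmin n hn hn0 ?_
    have h2 := congrArg (shift^[f - i]) h
    rw [← Function.iterate_add_apply, add_comm, Function.iterate_add_apply, hback] at h2
    exact h2
  · clear hle hback hcomm hif hi
    induction i with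
    | zero => exact he
    | succ i ih => rw [Function.iterate_succ_apply', even_wsum_shift]; exact ih
  · have hq : ∀ q, shift^[f * q] a = a := fun q => by
      induction q with
      | zero => rfl
      | succ q ih => rw [Nat.mul_succ, Function.iterate_add_apply, shift_period, ih]
    have heq : shift^[n] (shift^[i] a) = shift^[(n + i) % f] a := by
      rw [← Function.iterate_add_apply]
      conv_lhs => rw [← Nat.mod_add_div (n + i) f]
      rw [Function.iterate_add_apply, hq]
    rw [heq]
    exact hle _ (Finset.mem_range.2 (Nat.mod_lt _ (NeZero.pos f)))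
  · clear hle hback hcomm hif hi
    induction i with
    | zero => rfl
    | succ i ih =>
      have hp : shift^[k] (shift^[i] a) = shift^[i] a := by
        rw [← Function.iterate_add_apply, add_comm, Function.iterate_add_apply, hper]
      rw [Function.iterate_succ_apply', ← ih]
      simp only [vecOf, cnts, count_orbExp_shift _ _ _ _ hp]

/-- No list of orbits has the multiplicities of a target with failing search. -/
theorem no_orbits {f : ℕ} [NeZero f] {r : ℕ} {reps : List ℕ} {vs : List (List ℕ)} {fuel : ℕ}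
    (hcov : ∀ a : Fin f → Fin 3, (∀ i < f, wsum 3 (fun i => (a i : ℕ)) ≤
        wsum 3 (shift^[i] fun i => (a i : ℕ))) → Even (wsum 3 fun i => (a i : ℕ)) →
      ∀ k : Fin (f + 1), IsOrbit 3 ((fun i => (a i : ℕ)), (k : ℕ)) →
      vecOf r reps ((fun i => (a i : ℕ)), (k : ℕ)) ∈ vs)
    (hvs : ∀ v ∈ vs, v.length = reps.length + 2 ∧ flat v = true)
    (L : List ((Fin f → ℕ) × ℕ)) (hL : ∀ x ∈ L, IsOrbit 3 x ∧ Even (wsum 3 x.1))
    {T U : List ℕ} (hT : ∀ m ∈ reps, (L.flatMap (orbExp r 3)).count m = T.count m)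
    (hU : ∀ m ∈ [0, 2], (L.flatMap (orbExp 4 3)).count m = U.count m)
    (hs : search fuel (cnts reps T ++ cnts [0, 2] U) vs = false) : False := by
  classical
  have h := search_sound (d := reps.length + 2) (by omega) fuel (cnts reps T ++ cnts [0, 2] U) vs
    ((L.map (vecOf r reps) : List (List ℕ)) : Multiset (List ℕ)) (by simp [cnts]) hvs ?_ ?_
  · rw [hs] at h; exact Bool.false_ne_true h
  · intro v hv
    rw [Multiset.mem_coe, List.mem_map] at hv
    obtain ⟨⟨a, k⟩, hx, rfl⟩ := hv
    obtain ⟨ho, he⟩ := hL _ hx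
    obtain ⟨b, hb, hbe, hble, hbv⟩ := exists_least r reps _ ho he
    rw [← hbv]
    exact hcov (fun i => ⟨b i, hb.1 i⟩) hble hbe ⟨k, Nat.lt_succ_of_le hb.2.2.1⟩ hb
  · intro j
    rw [Multiset.map_coe, Multiset.sum_coe, List.map_map]
    by_cases hj : j < reps.length
    · rw [List.getD_append _ _ _ _ (by simpa [cnts] using hj), cnts_getD, dif_pos hj,
        ← hT _ (List.getElem_mem hj), count_flatMap_sum]
      refine congrArg List.sum (List.map_congr_left fun x _ => ?_)
      simp only [Function.comp_apply, vecOf]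
      rw [List.getD_append _ _ _ _ (by simpa [cnts] using hj), cnts_getD, dif_pos hj]
    · have hlen : ∀ l : List ℕ, (cnts reps l).length ≤ j := fun l => by
        simp [cnts]; omega
      rw [List.getD_append_right _ _ _ _ (hlen T), cnts_getD]
      by_cases hj2 : j - (cnts reps T).length < ([0, 2] : List ℕ).length
      · rw [dif_pos hj2, ← hU _ (List.getElem_mem hj2), count_flatMap_sum]
        refine congrArg List.sum (List.map_congr_left fun x _ => ?_)
        simp only [Function.comp_apply, vecOf]
        rw [List.getD_append_right _ _ _ _ (hlen _), cnts_getD]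
        simp only [cnts, List.length_map] at hj2 ⊢
        rw [dif_pos hj2]
      · rw [dif_neg hj2, eq_comm, List.sum_eq_zero]
        intro y hy
        obtain ⟨x, -, rfl⟩ := List.mem_map.1 hy
        simp only [Function.comp_apply, vecOf]
        rw [List.getD_append_right _ _ _ _ (hlen _), cnts_getD]
        simp only [cnts, List.length_map] at hj2 ⊢
        rw [dif_neg hj2]

end Cfsg.Lib.Chev.E8Spec
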