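import Cfsg.Agent.Lib.Chev.E8Spectrum.Elements
import Cfsg.Agent.Lib.Chev.E8Spectrum.Check

/-!
# The searches for orbit sums over a field with `243` elements with spectra of `E₈(3)`
-/

set_option autoImplicit false
set_option maxRecDepth 100000

namespace Cfsg.Lib.Chev.E8Spec

open Cfsg.Lib.Linear.TwistPower Cfsg.Lib.Chev.VecSearch

/-- The residues. -/
def reps11 : List ℕ := [0, 1, 2]

/-- The orbit vectors. -/
def vecs11 : List (List ℕ) := [[50, 49, 49, 270, 270], [35, 37, 37, 205, 200], [23, 22, 22, 121, 122], [20, 22, 22, 120, 120], [20, 16, 16, 90, 90], [10, 17, 17, 90, 90], [15, 12, 12, 65, 70], [5, 13, 13, 65, 70], [10, 7, 7, 40, 40], [10, 5, 5, 30, 30], [0, 6, 6, 30, 30], [5, 4, 4, 25, 20], [0, 2, 2, 10, 10], [5, 1, 1, 5, 10], [1, 0, 0, 1, 0]]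

/-- The possible multiplicities. -/
def targets11 : List (List ℕ) := [[28, 22, 22]]

theorem vecs11_ok : ∀ v ∈ vecs11, v.length = reps11.length + 2 ∧ flat v = true := by decide +kernel

theorem vecs11_cover : ∀ a : Fin 5 → Fin 3, (∀ i < 5, wsum 3 (fun i => (a i : ℕ)) ≤
    wsum 3 (shift^[i] fun i => (a i : ℕ))) → Even (wsum 3 fun i => (a i : ℕ)) →
    ∀ k : Fin (5 + 1), IsOrbit 3 ((fun i => (a i : ℕ)), (k : ℕ)) →
    vecOf 11 reps11 ((fun i => (a i : ℕ)), (k : ℕ)) ∈ vecs11 := by decide +kernel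

/-- The full multiplicities. -/
def hists11 : List (List ℕ) := [[28, 22, 22, 22, 22, 22, 22, 22, 22, 22, 22]]

theorem hists11_ok : ∀ h ∈ hists11, h.length = 11 ∧ ∀ n ∈ h, n < 256 := by decide +kernel

theorem hists11_pack : ∀ k ∈ cands 11, pack (semiExp 11 pairs11 k) ∈ hists11.map (packHist 11) := by
  decide +kernel

theorem pairs11_length : pairs11.length = 240 := by decide +kernel

theorem hists11_cover : ∀ k ∈ cands 11, hist 11 (semiExp 11 pairs11 k) ∈ hists11 := fun k hk =>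
  hist_mem (semiExp_lt 11 (by norm_num) pairs11 k)
    (by simp [semiExp, pairs11_length]) hists11_ok (hists11_pack k hk)

theorem targets11_cover : ∀ h ∈ hists11, ∀ c < 11, c ≠ 0 →
    (reps11.map fun m => h.getD (c * m % 11) 0) ∈ targets11 := by
  decide +kernel

theorem invTargets11 : ∀ e ∈ [1, 3], cnts [0, 2] (invExp e) ∈ ([[136, 112], [120, 128]] : List (List ℕ)) := by
  decide +kernel

theorem searches11 : ∀ t ∈ targets11, ∀ u ∈ ([[136, 112], [120, 128]] : List (List ℕ)),
    search 300 (t ++ u) vecs11 = false := by decide +kernel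

/-- No sum of orbits has these spectra. -/
theorem no_orbits11 (L : List ((Fin 5 → ℕ) × ℕ)) (hL : ∀ x ∈ L, IsOrbit 3 x ∧ Even (wsum 3 x.1))
    {k : ℕ × ℕ} (hk : k ∈ cands 11) {e : ℕ} (he : e = 1 ∨ e = 3) {i : ℕ} (hi : Nat.Coprime i 11)
    (hT : ∀ m, m < 11 →
      (L.flatMap (orbExp 11 3)).count m = ((semiExp 11 pairs11 k).map fun n => i * n % 11).count m)
    (hU : ∀ m ∈ [0, 2], (L.flatMap (orbExp 4 3)).count m = (invExp e).count m) : False := by
  obtain ⟨c, hc, hc0, hcm⟩ := exists_rescale (reps := reps11) (r := 11) (by norm_num) (by decide) hi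
    (semiExp 11 pairs11 k) (semiExp_lt 11 (by norm_num) pairs11 k)
  refine no_orbits vecs11_cover vecs11_ok L hL (T := (semiExp 11 pairs11 k).map fun n => i * n % 11)
    (fun m hm => hT m ((by decide : ∀ m ∈ reps11, m < 11) m hm)) hU (searches11 _ ?_ _ (invTargets11 e (by simpa using he)))
  rw [hcm]
  exact targets11_cover _ (hists11_cover k hk) c hc hc0

end Cfsg.Lib.Chev.E8Spec
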