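import Cfsg.Agent.Lib.Chev.E8Spectrum.Elements
import Cfsg.Agent.Lib.Chev.E8Spectrum.Check

/-!
# The searches for orbit sums over a field with `729` elements with spectra of `E₈(3)`
-/

set_option autoImplicit false
set_option maxRecDepth 100000

namespace Cfsg.Lib.Chev.E8Spec

open Cfsg.Lib.Linear.TwistPower Cfsg.Lib.Chev.VecSearch

/-- The residues. -/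
def reps73 : List ℕ := [0, 1, 2, 4, 5, 7, 13]

/-- The orbit vectors. -/
def vecs73 : List (List ℕ) := [[24, 26, 26, 27, 27, 26, 28, 972, 972], [24, 29, 25, 25, 28, 26, 27, 972, 972], [18, 21, 19, 19, 21, 21, 19, 726, 732], [12, 12, 14, 15, 12, 13, 14, 486, 486], [24, 11, 16, 12, 9, 11, 11, 432, 432], [12, 15, 11, 9, 13, 12, 11, 432, 432], [9, 10, 10, 10, 10, 10, 10, 365, 364], [12, 6, 11, 11, 7, 9, 9, 324, 324], [12, 10, 8, 6, 11, 10, 8, 324, 324], [12, 5, 10, 12, 7, 9, 10, 324, 324], [12, 10, 9, 8, 9, 9, 8, 324, 324], [12, 4, 10, 11, 9, 8, 11, 324, 324], [12, 9, 10, 8, 9, 9, 8, 324, 324], [0, 11, 5, 7, 12, 10, 9, 324, 324], [0, 9, 7, 9, 10, 10, 9, 324, 324], [0, 10, 7, 9, 10, 9, 9, 324, 324], [0,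 9, 6, 9, 11, 9, 10, 324, 324], [18, 5, 10, 8, 4, 6, 6, 246, 240], [6, 8, 6, 6, 7, 7, 6, 246, 240], [0, 8, 4, 5, 7, 7, 5, 216, 216], [12, 1, 7, 7, 1, 4, 3, 144, 144], [12, 4, 6, 3, 3, 3, 4, 144, 144], [0, 4, 3, 4, 5, 4, 4, 144, 144], [0, 5, 2, 3, 6, 5, 3, 144, 144], [0, 4, 2, 3, 6, 3, 6, 144, 144], [3, 5, 3, 3, 3, 3, 3, 123, 120], [12, 0, 5, 6, 0, 2, 4, 108, 108], [12, 3, 5, 3, 1, 2, 3, 108, 108], [0, 3, 2, 4, 3, 3, 3, 108, 108], [0, 4, 2, 3, 4, 3, 2, 108, 108], [0, 2, 2, 4, 3, 3, 4, 108, 108], [0, 3, 2, 3, 4, 2, 4, 108, 108], [0, 1, 2, 4, 3, 3, 5, 108, 108], [0, 6, 2, 0, 5, 3, 2, 108, 108], [0, 4, 1, 1, 5, 3, 4, 108, 108], [0, 6, 2, 1, 4, 4, 1, 108, 108], [0, 3, 3, 3, 3, 3, 3, 108, 108], [0, 3, 3, 4,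 2, 4, 2, 108, 108], [6, 2, 4, 2, 1, 2, 2, 78, 84], [6, 3, 4, 2, 0, 2, 2, 78, 84], [6, 2, 4, 2, 2, 2, 1, 78, 84], [0, 0, 2, 3, 1, 1, 2, 54, 54], [0, 2, 1, 1, 2, 2, 1, 54, 54], [0, 0, 1, 2, 1, 1, 3, 48, 48], [0, 3, 1, 0, 2, 1, 1, 48, 48], [0, 0, 2, 1, 0, 1, 2, 36, 36], [0, 1, 2, 1, 0, 1, 1, 36, 36], [0, 1, 1, 2, 0, 1, 1, 36, 36], [0, 3, 0, 0, 1, 1, 1, 36, 36], [0, 2, 0, 0, 2, 1, 1, 36, 36], [0, 0, 1, 2, 1, 2, 0, 36, 36], [0, 0, 0, 1, 2, 1, 2, 36, 36], [0, 0, 2, 2, 0, 0, 2, 36, 36], [0, 1, 0, 1, 2, 2, 0, 36, 36], [0, 3, 1, 0, 1, 1, 0, 36, 36], [4, 1, 2, 1, 0, 1, 0, 32, 32], [6, 1, 2, 1, 0, 0, 0, 30, 24], [6, 0, 3, 0, 0, 0, 1, 30, 24], [6, 0, 2, 1, 0, 0, 1, 26, 28], [0, 0, 0, 1, 1, 1, 1, 24, 24], [3, 0,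 1, 0, 0, 1, 0, 15, 12], [0, 0, 1, 1, 0, 0, 0, 12, 12], [0, 1, 0, 0, 0, 1, 0, 12, 12], [6, 0, 1, 0, 0, 0, 0, 6, 12], [0, 0, 0, 0, 1, 0, 0, 6, 6], [1, 0, 0, 0, 0, 0, 0, 1, 0]]

/-- The possible multiplicities. -/
def targets73 : List (List ℕ) := [[8, 2, 3, 4, 5, 4, 2], [8, 2, 5, 4, 2, 3, 4], [8, 3, 3, 3, 3, 4, 4], [8, 3, 3, 3, 4, 3, 4], [8, 3, 3, 3, 4, 4, 3], [8, 3, 3, 4, 4, 3, 3], [8, 3, 4, 2, 4, 2, 5], [8, 3, 4, 3, 3, 3, 4], [8, 3, 4, 4, 3, 3, 3], [8, 4, 2, 3, 2, 5, 4], [8, 4, 2, 5, 4, 2, 3], [8, 4, 3, 3, 3, 4, 3], [8, 4, 3, 4, 3, 3, 3], [8, 4, 4, 3, 3, 3, 3], [8, 5, 4, 2, 3, 4, 2], [20, 0, 3, 1, 9, 3, 3], [20, 1, 0, 3, 3, 9, 3], [20, 3, 1, 0, 3, 3, 9], [20, 3, 3, 9, 1, 0, 3], [20, 3, 9, 3, 0, 3, 1],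 [20, 9, 3, 3, 3, 1, 0], [32, 0, 1, 1, 8, 8, 0], [32, 0, 8, 8, 0, 1, 1], [32, 1, 0, 1, 0, 8, 8], [32, 1, 1, 0, 8, 0, 8], [32, 8, 0, 8, 1, 0, 1], [32, 8, 8, 0, 1, 1, 0]]

theorem vecs73_ok : ∀ v ∈ vecs73, v.length = reps73.length + 2 ∧ flat v = true := by decide +kernel

theorem vecs73_cover : ∀ a : Fin 6 → Fin 3, (∀ i < 6, wsum 3 (fun i => (a i : ℕ)) ≤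
    wsum 3 (shift^[i] fun i => (a i : ℕ))) → Even (wsum 3 fun i => (a i : ℕ)) →
    ∀ k : Fin (6 + 1), IsOrbit 3 ((fun i => (a i : ℕ)), (k : ℕ)) →
    vecOf 73 reps73 ((fun i => (a i : ℕ)), (k : ℕ)) ∈ vecs73 := by decide +kernel

/-- The full multiplicities. -/
def hists73 : List (List ℕ) := [[8, 4, 4, 4, 3, 3, 4, 3, 4, 4, 3, 3, 3, 3, 3, 3, 4, 3, 4, 4, 3, 3, 3, 3, 4, 4, 3, 4, 3, 3, 3, 3, 3, 3, 3, 3, 3, 3, 3, 3, 3, 3, 3, 3, 3, 3, 4, 3, 4, 4, 3, 3, 3, 3, 4, 4, 3, 4, 3, 3, 3, 3, 3, 3, 4, 4, 3, 4, 3, 3, 4, 4, 4], [32, 8, 8, 8, 0, 1, 8, 1, 8, 8, 1, 1, 0, 0, 0, 1, 8, 1, 8, 8, 0, 1, 1, 0, 8, 8, 1, 8, 1, 0, 1, 0, 0, 1, 0, 0, 0, 0, 0, 0, 1, 0, 0, 1, 0, 1, 8, 1, 8, 8, 0, 1, 1, 0, 8, 8, 1, 8, 1, 0, 0, 0, 1, 1,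 8, 8, 1, 8, 1, 0, 8, 8, 8], [8, 3, 4, 3, 4, 3, 4, 3, 3, 3, 3, 3, 4, 3, 3, 3, 4, 3, 4, 4, 3, 3, 3, 4, 3, 4, 3, 3, 3, 3, 3, 3, 4, 3, 3, 4, 4, 4, 4, 3, 3, 4, 3, 3, 3, 3, 3, 3, 4, 3, 4, 3, 3, 3, 4, 4, 3, 4, 3, 3, 3, 4, 3, 3, 3, 3, 3, 4, 3, 4, 3, 4, 3], [8, 4, 3, 4, 3, 3, 3, 4, 4, 4, 4, 3, 3, 3, 3, 3, 3, 4, 3, 3, 3, 4, 4, 3, 4, 3, 3, 4, 3, 3, 4, 3, 3, 3, 3, 3, 3, 3, 3, 3, 3, 3, 3, 4, 3, 3, 4, 3, 3, 4, 3, 4, 4, 3, 3, 3, 4, 3, 3, 3, 3, 3, 3, 4, 4, 4, 4, 3, 3, 3, 4, 3, 4], [8, 4, 2, 4, 5, 4, 2, 2, 4, 4, 2, 4, 5, 3, 3, 4, 2, 2, 2, 2, 3, 2, 2, 5, 4, 2, 4, 4, 4, 3, 2, 3, 5, 4, 3, 5, 5, 5, 5, 3, 4, 5, 3, 2, 3, 4, 4, 4, 2, 4, 5, 2, 2, 3, 2, 2, 2, 2, 4, 3, 3, 5, 4, 2, 4, 4, 2, 2, 4, 5, 4, 2, 4], [8, 5, 4, 5, 2, 3,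 4, 4, 5, 5, 4, 3, 2, 2, 2, 3, 4, 4, 4, 4, 2, 4, 4, 2, 5, 4, 3, 5, 3, 2, 4, 2, 2, 3, 2, 2, 2, 2, 2, 2, 3, 2, 2, 4, 2, 3, 5, 3, 4, 5, 2, 4, 4, 2, 4, 4, 4, 4, 3, 2, 2, 2, 3, 4, 5, 5, 4, 4, 3, 2, 5, 4, 5], [8, 2, 3, 2, 4, 5, 3, 4, 2, 2, 4, 5, 4, 2, 2, 5, 3, 4, 3, 3, 2, 4, 4, 4, 2, 3, 5, 2, 5, 2, 4, 2, 4, 5, 2, 4, 4, 4, 4, 2, 5, 4, 2, 4, 2, 5, 2, 5, 3, 2, 4, 4, 4, 2, 3, 3, 4, 3, 5, 2, 2, 4, 5, 4, 2, 2, 4, 3, 5, 4, 2, 3, 2], [8, 4, 3, 4, 4, 3, 3, 3, 4, 4, 3, 3, 4, 3, 3, 3, 3, 3, 3, 3, 3, 3, 3, 4, 4, 3, 3, 4, 3, 3, 3, 3, 4, 3, 3, 4, 4, 4, 4, 3, 3, 4, 3, 3, 3, 3, 4, 3, 3, 4, 4, 3, 3, 3, 3, 3, 3, 3, 3, 3, 3, 4, 3, 3, 4, 4, 3, 3, 3, 4, 4, 3, 4], [8, 3, 4, 3, 2, 4, 4, 2, 3, 3, 2, 4, 2, 5, 5, 4, 4, 2, 4, 4, 5,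 2, 2, 2, 3, 4, 4, 3, 4, 5, 2, 5, 2, 4, 5, 2, 2, 2, 2, 5, 4, 2, 5, 2, 5, 4, 3, 4, 4, 3, 2, 2, 2, 5, 4, 4, 2, 4, 4, 5, 5, 2, 4, 2, 3, 3, 2, 4, 4, 2, 3, 4, 3], [8, 3, 3, 3, 4, 4, 3, 3, 3, 3, 3, 4, 4, 3, 3, 4, 3, 3, 3, 3, 3, 3, 3, 4, 3, 3, 4, 3, 4, 3, 3, 3, 4, 4, 3, 4, 4, 4, 4, 3, 4, 4, 3, 3, 3, 4, 3, 4, 3, 3, 4, 3, 3, 3, 3, 3, 3, 3, 4, 3, 3, 4, 4, 3, 3, 3, 3, 3, 4, 4, 3, 3, 3], [8, 4, 2, 4, 3, 2, 2, 5, 4, 4, 5, 2, 3, 4, 4, 2, 2, 5, 2, 2, 4, 5, 5, 3, 4, 2, 2, 4, 2, 4, 5, 4, 3, 2, 4, 3, 3, 3, 3, 4, 2, 3, 4, 5, 4, 2, 4, 2, 2, 4, 3, 5, 5, 4, 2, 2, 5, 2, 2, 4, 4, 3, 2, 5, 4, 4, 5, 2, 2, 3, 4, 2, 4], [20, 3, 1, 3, 0, 3, 1, 3, 3, 3, 3, 3, 0, 9, 9, 3, 1, 3, 1, 1, 9, 3, 3, 0, 3, 1, 3, 3, 3, 9, 3, 9, 0, 3, 9, 0,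 0, 0, 0, 9, 3, 0, 9, 3, 9, 3, 3, 3, 1, 3, 0, 3, 3, 9, 1, 1, 3, 1, 3, 9, 9, 0, 3, 3, 3, 3, 3, 1, 3, 0, 3, 1, 3], [8, 3, 4, 3, 3, 3, 4, 3, 3, 3, 3, 3, 3, 4, 4, 3, 4, 3, 4, 4, 4, 3, 3, 3, 3, 4, 3, 3, 3, 4, 3, 4, 3, 3, 4, 3, 3, 3, 3, 4, 3, 3, 4, 3, 4, 3, 3, 3, 4, 3, 3, 3, 3, 4, 4, 4, 3, 4, 3, 4, 4, 3, 3, 3, 3, 3, 3, 4, 3, 3, 3, 4, 3], [8, 2, 5, 2, 4, 2, 5, 3, 2, 2, 3, 2, 4, 4, 4, 2, 5, 3, 5, 5, 4, 3, 3, 4, 2, 5, 2, 2, 2, 4, 3, 4, 4, 2, 4, 4, 4, 4, 4, 4, 2, 4, 4, 3, 4, 2, 2, 2, 5, 2, 4, 3, 3, 4, 5, 5, 3, 5, 2, 4, 4, 4, 2, 3, 2, 2, 3, 5, 2, 4, 2, 5, 2], [32, 0, 8, 0, 8, 0, 8, 1, 0, 0, 1, 0, 8, 1, 1, 0, 8, 1, 8, 8, 1, 1, 1, 8, 0, 8, 0, 0, 0, 1, 1, 1, 8, 0, 1, 8, 8, 8, 8, 1, 0, 8, 1, 1, 1, 0, 0, 0, 8, 0, 8,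 1, 1, 1, 8, 8, 1, 8, 0, 1, 1, 8, 0, 1, 0, 0, 1, 8, 0, 8, 0, 8, 0], [32, 1, 0, 1, 1, 0, 0, 8, 1, 1, 8, 0, 1, 8, 8, 0, 0, 8, 0, 0, 8, 8, 8, 1, 1, 0, 0, 1, 0, 8, 8, 8, 1, 0, 8, 1, 1, 1, 1, 8, 0, 1, 8, 8, 8, 0, 1, 0, 0, 1, 1, 8, 8, 8, 0, 0, 8, 0, 0, 8, 8, 1, 0, 8, 1, 1, 8, 0, 0, 1, 1, 0, 1], [8, 3, 3, 3, 3, 4, 3, 3, 3, 3, 3, 4, 3, 4, 4, 4, 3, 3, 3, 3, 4, 3, 3, 3, 3, 3, 4, 3, 4, 4, 3, 4, 3, 4, 4, 3, 3, 3, 3, 4, 4, 3, 4, 3, 4, 4, 3, 4, 3, 3, 3, 3, 3, 4, 3, 3, 3, 3, 4, 4, 4, 3, 4, 3, 3, 3, 3, 3, 4, 3, 3, 3, 3], [32, 0, 1, 0, 1, 8, 1, 8, 0, 0, 8, 8, 1, 0, 0, 8, 1, 8, 1, 1, 0, 8, 8, 1, 0, 1, 8, 0, 8, 0, 8, 0, 1, 8, 0, 1, 1, 1, 1, 0, 8, 1, 0, 8, 0, 8, 0, 8, 1, 0, 1, 8, 8, 0, 1, 1, 8, 1, 8, 0, 0, 1, 8, 8, 0, 0,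 8, 1, 8, 1, 0, 1, 0], [8, 3, 3, 3, 3, 4, 3, 4, 3, 3, 4, 4, 3, 3, 3, 4, 3, 4, 3, 3, 3, 4, 4, 3, 3, 3, 4, 3, 4, 3, 4, 3, 3, 4, 3, 3, 3, 3, 3, 3, 4, 3, 3, 4, 3, 4, 3, 4, 3, 3, 3, 4, 4, 3, 3, 3, 4, 3, 4, 3, 3, 3, 4, 4, 3, 3, 4, 3, 4, 3, 3, 3, 3], [20, 0, 3, 0, 1, 9, 3, 3, 0, 0, 3, 9, 1, 3, 3, 9, 3, 3, 3, 3, 3, 3, 3, 1, 0, 3, 9, 0, 9, 3, 3, 3, 1, 9, 3, 1, 1, 1, 1, 3, 9, 1, 3, 3, 3, 9, 0, 9, 3, 0, 1, 3, 3, 3, 3, 3, 3, 3, 9, 3, 3, 1, 9, 3, 0, 0, 3, 3, 9, 1, 0, 3, 0], [20, 9, 3, 9, 3, 3, 3, 1, 9, 9, 1, 3, 3, 0, 0, 3, 3, 1, 3, 3, 0, 1, 1, 3, 9, 3, 3, 9, 3, 0, 1, 0, 3, 3, 0, 3, 3, 3, 3, 0, 3, 3, 0, 1, 0, 3, 9, 3, 3, 9, 3, 1, 1, 0, 3, 3, 1, 3, 3, 0, 0, 3, 3, 1, 9, 9, 1, 3, 3, 3, 9, 3, 9], [8, 3, 3, 3, 3, 3, 3,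 4, 3, 3, 4, 3, 3, 4, 4, 3, 3, 4, 3, 3, 4, 4, 4, 3, 3, 3, 3, 3, 3, 4, 4, 4, 3, 3, 4, 3, 3, 3, 3, 4, 3, 3, 4, 4, 4, 3, 3, 3, 3, 3, 3, 4, 4, 4, 3, 3, 4, 3, 3, 4, 4, 3, 3, 4, 3, 3, 4, 3, 3, 3, 3, 3, 3], [20, 3, 3, 3, 9, 1, 3, 0, 3, 3, 0, 1, 9, 3, 3, 1, 3, 0, 3, 3, 3, 0, 0, 9, 3, 3, 1, 3, 1, 3, 0, 3, 9, 1, 3, 9, 9, 9, 9, 3, 1, 9, 3, 0, 3, 1, 3, 1, 3, 3, 9, 0, 0, 3, 3, 3, 0, 3, 1, 3, 3, 9, 1, 0, 3, 3, 0, 3, 1, 9, 3, 3, 3], [20, 1, 0, 1, 3, 3, 0, 9, 1, 1, 9, 3, 3, 3, 3, 3, 0, 9, 0, 0, 3, 9, 9, 3, 1, 0, 3, 1, 3, 3, 9, 3, 3, 3, 3, 3, 3, 3, 3, 3, 3, 3, 3, 9, 3, 3, 1, 3, 0, 1, 3, 9, 9, 3, 0, 0, 9, 0, 3, 3, 3, 3, 3, 9, 1, 1, 9, 0, 3, 3, 1, 0, 1]]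

theorem hists73_ok : ∀ h ∈ hists73, h.length = 73 ∧ ∀ n ∈ h, n < 256 := by decide +kernel

theorem hists73_pack : ∀ k ∈ cands 73, pack (semiExp 73 pairs73 k) ∈ hists73.map (packHist 73) := by
  decide +kernel

theorem pairs73_length : pairs73.length = 240 := by decide +kernel

theorem hists73_cover : ∀ k ∈ cands 73, hist 73 (semiExp 73 pairs73 k) ∈ hists73 := fun k hk =>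
  hist_mem (semiExp_lt 73 (by norm_num) pairs73 k)
    (by simp [semiExp, pairs73_length]) hists73_ok (hists73_pack k hk)

theorem targets73_cover : ∀ h ∈ hists73, ∀ c < 73, c ≠ 0 →
    (reps73.map fun m => h.getD (c * m % 73) 0) ∈ targets73 := by
  decide +kernel

theorem invTargets73 : ∀ e ∈ [1, 3], cnts [0, 2] (invExp e) ∈ ([[136, 112], [120, 128]] : List (List ℕ)) := by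
  decide +kernel

theorem searches73 : ∀ t ∈ targets73, ∀ u ∈ ([[136, 112], [120, 128]] : List (List ℕ)),
    search 300 (t ++ u) vecs73 = false := by decide +kernel

/-- No sum of orbits has these spectra. -/
theorem no_orbits73 (L : List ((Fin 6 → ℕ) × ℕ)) (hL : ∀ x ∈ L, IsOrbit 3 x ∧ Even (wsum 3 x.1))
    {k : ℕ × ℕ} (hk : k ∈ cands 73) {e : ℕ} (he : e = 1 ∨ e = 3) {i : ℕ} (hi : Nat.Coprime i 73)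
    (hT : ∀ m, m < 73 →
      (L.flatMap (orbExp 73 3)).count m = ((semiExp 73 pairs73 k).map fun n => i * n % 73).count m)
    (hU : ∀ m ∈ [0, 2], (L.flatMap (orbExp 4 3)).count m = (invExp e).count m) : False := by
  obtain ⟨c, hc, hc0, hcm⟩ := exists_rescale (reps := reps73) (r := 73) (by norm_num) (by decide) hi
    (semiExp 73 pairs73 k) (semiExp_lt 73 (by norm_num) pairs73 k)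
  refine no_orbits vecs73_cover vecs73_ok L hL (T := (semiExp 73 pairs73 k).map fun n => i * n % 73)
    (fun m hm => hT m ((by decide : ∀ m ∈ reps73, m < 73) m hm)) hU (searches73 _ ?_ _ (invTargets73 e (by simpa using he)))
  rw [hcm]
  exact targets73_cover _ (hists73_cover k hk) c hc hc0

end Cfsg.Lib.Chev.E8Spec
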