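import Cfsg.Agent.Lib.Chev.E8Spectrum.Semisimple
import Cfsg.Agent.Lib.Chev.SylE8
import Cfsg.Agent.Lib.Chev.InvE8
import Cfsg.Agent.S1065

/-!
# Spectra on the adjoint module of elements of order `2`, `11`, `73` in `E₈(3)`
-/

set_option autoImplicit false
set_option maxRecDepth 100000

namespace Cfsg.Lib.Chev.E8Spec

open Cfsg.Lie Cfsg.Lib.Chev Polynomial

/-- The exponents of the roots on two generators of a Sylow `11`-subgroup. -/
def pairs11 : List (ℕ × ℕ) := [(0, 10), (10, 1), (7, 9), (0, 9), (9, 2), (3, 7), (5, 9), (6, 8), (8, 10), (2, 4), (0, 8), (4, 8), (1, 5), (0, 7), (6, 9), (9, 10), (3, 4), (1, 8), (5, 8), (2, 5), (1, 7), (5, 6), (3, 10), (7, 10), (4, 7), (3, 9), (8, 4), (1, 4), (9, 1), (8, 3), (10, 8), (7, 5), (6, 7), (0, 5), (10, 7), (7, 4), (0, 5), (4, 5), (1, 2), (0, 4), (2, 9), (10, 6), (9, 8), (3, 6), (2, 8), (10, 5), (7, 3), (4, 0), (3, 2), (8, 0), (7, 2), (4, 10), (6, 4), (5, 6), (2, 3), (6, 3), (9, 5), (6, 2), (5,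 4), (10, 2), (9, 4), (6, 1), (8, 6), (7, 8), (4, 5), (8, 5), (2, 0), (1, 2), (9, 10), (2, 10), (0, 3), (5, 1), (4, 3), (1, 0), (5, 0), (3, 4), (8, 9), (10, 0), (10, 5), (7, 2), (6, 4), (0, 2), (10, 4), (7, 1), (9, 6), (8, 8), (5, 5), (9, 5), (3, 0), (2, 2), (10, 10), (3, 10), (1, 3), (5, 2), (4, 4), (1, 1), (5, 1), (3, 5), (8, 10), (6, 1), (5, 3), (2, 0), (6, 0), (4, 4), (9, 9), (8, 3), (7, 5), (4, 2), (8, 2), (6, 6), (2, 8), (1, 10), (9, 7), (2, 7), (0, 1), (10, 3), (7, 0), (4, 1), (3, 3), (1, 9), (10, 2), (8, 8), (7, 10), (4, 0), (1, 8), (0, 10), (9, 4), (2, 4), (10, 1), (9, 3), (5, 5), (3, 9), (7, 9), (4, 6), (3, 8), (2, 2), (7, 7), (5, 0), (9, 0), (6, 8), (5, 10), (3, 1), (8, 6), (6, 10), (10, 10), (7, 7), (6, 9), (10, 8), (8, 1), (1, 1), (9, 9), (8, 0), (2, 6), (6, 6), (3, 3), (2, 5), (4, 10), (1, 7), (0, 9), (5, 7), (4, 9), (1, 6), (1, 0), (3, 2), (8, 7), (6, 0), (10, 0), (7, 8), (6, 10), (0, 8), (9, 1), (2, 1), (10, 9), (9, 0),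 (3, 6), (7, 6), (4, 3), (3, 5), (5, 10), (2, 7), (1, 9), (6, 7), (5, 9), (2, 6), (5, 8), (9, 8), (6, 5), (5, 7), (7, 1), (4, 9), (3, 0), (8, 9), (7, 0), (4, 8), (1, 6), (9, 3), (8, 5), (2, 3), (1, 5), (9, 2), (0, 7), (10, 9), (7, 6), (0, 6), (4, 7), (1, 4), (0, 6), (5, 4), (4, 6), (1, 3), (3, 8), (2, 10), (10, 7), (3, 7), (8, 2), (7, 4), (4, 1), (8, 1), (6, 5), (10, 4), (9, 6), (6, 3), (10, 3), (8, 7), (2, 1), (5, 2), (0, 4), (10, 6), (7, 3), (0, 3), (9, 7), (3, 1), (5, 3), (6, 2), (8, 4), (2, 9), (0, 2), (4, 2), (1, 10), (0, 1)]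

theorem pairs11_eq : ((List.range 240).map fun s =>
    ((sylE8_5.bval tblE8 3 0 s % 11).toNat, (sylE8_5.bval tblE8 3 1 s % 11).toNat)) = pairs11 := by
  decide +kernel

/-- The exponents of the roots on two generators of a Sylow `73`-subgroup. -/
def pairs73 : List (ℕ × ℕ) := [(0, 72), (72, 1), (0, 70), (54, 25), (6, 10), (46, 51), (0, 24), (70, 3), (24, 49), (64, 17), (16, 2), (70, 30), (71, 26), (70, 28), (57, 13), (8, 38), (48, 6), (0, 64), (54, 19), (55, 15), (54, 17), (2, 52), (27, 37), (8, 65), (9, 61), (8, 63), (67, 5), (48, 33), (49, 29), (48, 31), (0, 18), (1, 14), (0, 16), (55, 42), (54, 44), (55, 40), (18, 30), (72, 58), (0, 54), (72, 56), (24, 43), (25, 39), (24, 41), (6, 67), (5, 69), (6, 65), (64, 11), (65, 7), (64, 9), (46, 35), (45, 37), (46, 33), (71, 20), (70, 22), (71, 18), (52, 46), (18, 57), (19, 53), (18, 55), (0, 8), (72, 10), (0, 6), (25, 66), (24, 68), (25, 64), (6, 19), (65, 34), (64, 36), (65, 32), (46, 60),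 (71, 45), (16, 59), (15, 61), (16, 57), (70, 12), (22, 70), (62, 38), (16, 11), (2, 46), (3, 42), (2, 44), (57, 70), (56, 72), (57, 68), (9, 55), (8, 57), (9, 53), (63, 8), (49, 23), (48, 25), (49, 21), (30, 49), (55, 34), (3, 69), (2, 71), (3, 67), (57, 22), (9, 7), (49, 48), (0, 48), (72, 50), (0, 46), (54, 1), (6, 59), (46, 27), (27, 21), (26, 23), (27, 19), (8, 47), (33, 32), (67, 62), (66, 64), (67, 60), (48, 15), (19, 47), (18, 49), (19, 45), (0, 2), (72, 4), (1, 71), (72, 2), (1, 69), (0, 71), (54, 28), (55, 24), (54, 26), (25, 58), (6, 13), (7, 9), (6, 11), (40, 41), (65, 26), (46, 54), (47, 50), (46, 52), (27, 46), (67, 14), (19, 72), (0, 27), (1, 23), (0, 25), (24, 25), (64, 66), (16, 51), (70, 6), (71, 2), (70, 4), (18, 39), (43, 24), (24, 52), (25, 48), (24, 50), (10, 65), (64, 20), (65, 16), (64, 18), (16, 5), (17, 1), (16, 3), (71, 29), (70, 31), (71, 27), (57, 62), (11, 35), (51, 3), (3, 61), (57, 16), (58, 12), (57, 14),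 (2, 28), (27, 13), (8, 41), (9, 37), (8, 39), (67, 54), (48, 9), (49, 5), (48, 7), (0, 67), (1, 63), (0, 65), (55, 18), (54, 20), (55, 16), (21, 27), (2, 55), (3, 51), (2, 53), (27, 40), (28, 36), (27, 38), (9, 64), (8, 66), (9, 62), (67, 8), (68, 4), (67, 6), (49, 32), (48, 34), (49, 30), (1, 17), (0, 19), (1, 15), (55, 43), (18, 33), (19, 29), (18, 31), (0, 57), (72, 59), (0, 55), (25, 42), (24, 44), (25, 40), (6, 68), (65, 10), (64, 12), (65, 8), (46, 36), (71, 21), (19, 56), (18, 58), (19, 54), (0, 9), (25, 67), (65, 35), (16, 60), (3, 45), (2, 47), (3, 43), (57, 71), (9, 56), (49, 24), (3, 70), (0, 49), (27, 22), (67, 63), (19, 48), (0, 3), (1, 72), (0, 1)]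

theorem pairs73_eq : ((List.range 240).map fun s =>
    ((sylE8_12.bval tblE8 3 0 s % 73).toNat, (sylE8_12.bval tblE8 3 1 s % 73).toNat)) = pairs73 := by
  decide +kernel

/-- The exponents of the eigenvalues of a torus element. -/
def semiExp (r : ℕ) (B : List (ℕ × ℕ)) (k : ℕ × ℕ) : List ℕ :=
  List.replicate 8 0 ++ B.map fun b => (k.1 * b.1 + k.2 * b.2) % r

/-- The generators up to powers. -/
def cands (r : ℕ) : List (ℕ × ℕ) := (0, 1) :: (List.range r).map fun j => (1, j)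

theorem semiExp_lt (r : ℕ) (hr : 0 < r) (B : List (ℕ × ℕ)) (k : ℕ × ℕ) :
    ∀ n ∈ semiExp r B k, n < r := by
  intro n hn
  rcases List.mem_append.1 hn with h | h
  · rw [List.eq_of_mem_replicate h]; exact hr
  · obtain ⟨b, -, rfl⟩ := List.mem_map.1 h
    exact Nat.mod_lt _ hr

/-- The parity of a root at a torus involution. -/
noncomputable def par (e s : ℕ) : ℕ :=
  ((∑ j ∈ Finset.range 8, if Nat.testBit e j then tblE8.cartan j s else 0) % 2).toNat

/-- The exponents of the eigenvalues of an involution at a primitive fourth root of unity. -/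
noncomputable def invExp (e : ℕ) : List ℕ :=
  List.replicate 8 0 ++ (List.range 240).map fun s => 2 * par e s

private theorem cE8 : Cert chevE8 tblE8 := fullCertE8.comm.cert

variable {L : Type*} [Field L]

theorem prod_exps (ω : L) (G : ℕ → ℕ) :
    (X - C (1 : L)) ^ 8 * ∏ s : Fin 240, (X - C (ω ^ G s)) =
      ((List.replicate 8 0 ++ (List.range 240).map G).map fun n => X - C (ω ^ n)).prod := by
  rw [List.map_append, List.prod_append, List.map_replicate, List.prod_replicate, pow_zero,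
    List.map_map, Fin.prod_univ_eq_prod_range (fun s => X - C (ω ^ G s)), ← List.toFinset_range,
    List.prod_toFinset _ List.nodup_range]
  rfl

theorem prod_semiExp {r : ℕ} {ω : L} (hω : IsPrimitiveRoot ω r) (hr : r.Prime) {B : List (ℕ × ℕ)}
    (k0 k1 : ℕ) (hk0 : k0 < r) (hk1 : k1 < r) (hk : k0 ≠ 0 ∨ k1 ≠ 0) :
    ∃ (ω' : L) (k : ℕ × ℕ), IsPrimitiveRoot ω' r ∧ k ∈ cands r ∧
      ((semiExp r B (k0, k1)).map fun n => X - C (ω ^ n)) =
        (semiExp r B k).map fun n => X - C (ω' ^ n) := by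
  haveI := Fact.mk hr
  have main : ∀ (c : ℕ) (k : ℕ × ℕ), Nat.ModEq r k0 (c * k.1) → Nat.ModEq r k1 (c * k.2) →
      ((semiExp r B (k0, k1)).map fun n => X - C (ω ^ n)) =
        (semiExp r B k).map fun n => X - C ((ω ^ c) ^ n) := by
    intro c k h0 h1
    simp only [semiExp, List.map_append, List.map_replicate, List.map_map, pow_zero]
    refine congrArg _ (List.map_congr_left fun b _ => ?_)
    simp only [Function.comp_apply]
    refine congrArg (fun z : L => X - C z) ?_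
    rw [← pow_mul, pow_eq_pow_mod (c * _) hω.pow_eq_one]
    refine congrArg (ω ^ ·) ?_
    rw [Nat.mul_mod_mod, Nat.mul_add, ← mul_assoc, ← mul_assoc]
    exact (h0.mul_right _).add (h1.mul_right _)
  by_cases h : k0 = 0
  · have hk' : k1 ≠ 0 := hk.resolve_left (fun hh => hh h)
    refine ⟨ω ^ k1, (0, 1), hω.pow_of_coprime k1 ?_, List.mem_cons_self, main k1 (0, 1) ?_ ?_⟩
    · exact (hr.coprime_iff_not_dvd.2 fun hd => by have := Nat.le_of_dvd (by omega) hd; omega).symm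
    · simp [h, Nat.ModEq]
    · simp [Nat.ModEq]
  · let j := ((k1 : ZMod r) * (k0 : ZMod r)⁻¹).val
    refine ⟨ω ^ k0, (1, j), hω.pow_of_coprime k0 ?_,
      List.mem_cons_of_mem _ (List.mem_map.2 ⟨j, List.mem_range.2 (ZMod.val_lt _), rfl⟩),
      main k0 (1, j) (by simp [Nat.ModEq]) ?_⟩
    · exact (hr.coprime_iff_not_dvd.2 fun hd => by have := Nat.le_of_dvd (by omega) hd; omega).symm
    · rw [← ZMod.natCast_eq_natCast_iff]
      push_cast
      have h0 : (k0 : ZMod r) ≠ 0 := by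
        rw [Ne, ZMod.natCast_eq_zero_iff]
        exact fun hd => absurd (Nat.le_of_dvd (by omega) hd) (by omega)
      simp only [j, ZMod.natCast_zmod_val]
      field_simp

/-- The adjoint matrix over an algebraic closure. -/
noncomputable def closureMat (g : ↥(chevE8.group (ZMod 3))) :
    Matrix chevE8.Idx chevE8.Idx (AlgebraicClosure (ZMod 3)) :=
  (((g : ↥(chevE8.group (ZMod 3))) : GL chevE8.Idx (ZMod 3)) : Matrix chevE8.Idx chevE8.Idx (ZMod 3)).map
    (algebraMap (ZMod 3) (AlgebraicClosure (ZMod 3)))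

theorem order_spectrum [Fact (Nat.Prime 3)] {r w : ℕ} [hr : Fact r.Prime] (hr3 : ¬ r ∣ 3)
    {S : SylTor} (hS : SylOK chevE8 tblE8 2 S) (hval : ((r ^ (w + 1) : ℕ) : ℤ) ∣ S.val 3)
    (hord : (Nat.card ↥(chevE8.group (ZMod 3))).factorization r = 2 * (w + 1))
    {B : List (ℕ × ℕ)} (hB : ((List.range 240).map fun s =>
      ((S.bval tblE8 3 0 s % (r : ℤ)).toNat, (S.bval tblE8 3 1 s % (r : ℤ)).toNat)) = B)
    {g : ↥(chevE8.group (ZMod 3))} (hg : g ^ r = 1) (hg1 : g ≠ 1) :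
    ∃ (ω : AlgebraicClosure (ZMod 3)) (k : ℕ × ℕ), IsPrimitiveRoot ω r ∧ k ∈ cands r ∧
      (closureMat g).charpoly = ((semiExp r B k).map fun n => X - C (ω ^ n)).prod := by
  classical
  obtain ⟨ω, k, hω, hk, hchar⟩ := spectrum_of_order cE8 fullCertE8 (q := 3) (ZMod.card 3) hr3 inv_E8
    hr.out.not_dvd_one hS (by exact_mod_cast hval) hord hg hg1
  have hk' : (k 0 : ℕ) ≠ 0 ∨ (k 1 : ℕ) ≠ 0 := by
    obtain ⟨i, hi⟩ := hk
    fin_cases i
    · exact Or.inl hi
    · exact Or.inr hi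
  obtain ⟨ω', k', hω', hk'', he⟩ := prod_semiExp (B := B) hω hr.out (k 0) (k 1) (k 0).2 (k 1).2 hk'
  refine ⟨ω', k', hω', hk'', ?_⟩
  rw [← he, closureMat, hchar, show chevE8.rank = 8 from rfl]
  refine Eq.trans ?_ ((prod_exps ω fun s => (((k 0 : ℕ) * (S.bval tblE8 3 0 s % (r : ℤ)).toNat +
    (k 1 : ℕ) * (S.bval tblE8 3 1 s % (r : ℤ)).toNat) % r)).trans ?_)
  · refine congrArg₂ (· * ·) rfl (Finset.prod_congr rfl fun s _ => ?_)
    refine congrArg (fun z : ℕ => X - C (ω ^ z)) ?_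
    have hr0 : (r : ℤ) ≠ 0 := by exact_mod_cast hr.out.ne_zero
    apply Nat.cast_injective (R := ℤ)
    rw [Int.toNat_of_nonneg (Int.emod_nonneg _ hr0), Fin.sum_univ_two]
    push_cast [Int.toNat_of_nonneg (Int.emod_nonneg _ hr0)]
    simp only [Int.add_emod, Int.mul_emod, Int.emod_emod]
    simp
  · rw [← hB]
    simp only [semiExp, List.map_map]
    rfl

theorem factorization_eq {p k n : ℕ} (hp : p.Prime) (hn : n ≠ 0) (h : p ^ k ∣ n)
    (h' : ¬ p ^ (k + 1) ∣ n) : n.factorization p = k := by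
  rw [hp.pow_dvd_iff_le_factorization hn] at h h'
  omega

theorem card_factor_11 : (Nat.card ↥(chevE8.group (ZMod 3))).factorization 11 = 2 * (1 + 1) := by
  rw [Cfsg.Agent.S1065.result (q := 3) (ZMod.card 3)]
  exact factorization_eq (by norm_num) (by norm_num) (by norm_num) (by norm_num)

theorem card_factor_73 : (Nat.card ↥(chevE8.group (ZMod 3))).factorization 73 = 2 * (0 + 1) := by
  rw [Cfsg.Agent.S1065.result (q := 3) (ZMod.card 3)]
  exact factorization_eq (by norm_num) (by norm_num) (by norm_num) (by norm_num)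

theorem spectrum_11 {g : ↥(chevE8.group (ZMod 3))} (hg : g ^ 11 = 1) (hg1 : g ≠ 1) :
    ∃ (ω : AlgebraicClosure (ZMod 3)) (k : ℕ × ℕ), IsPrimitiveRoot ω 11 ∧ k ∈ cands 11 ∧
      (closureMat g).charpoly = ((semiExp 11 pairs11 k).map fun n => X - C (ω ^ n)).prod :=
  haveI : Fact (Nat.Prime 3) := ⟨by norm_num⟩
  haveI : Fact (Nat.Prime 11) := ⟨by norm_num⟩
  order_spectrum (w := 1) (by norm_num) (sylOK_of_chk cE8 chkSyl_E8_5) (by decide +kernel)
    card_factor_11 pairs11_eq hg hg1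

theorem spectrum_73 {g : ↥(chevE8.group (ZMod 3))} (hg : g ^ 73 = 1) (hg1 : g ≠ 1) :
    ∃ (ω : AlgebraicClosure (ZMod 3)) (k : ℕ × ℕ), IsPrimitiveRoot ω 73 ∧ k ∈ cands 73 ∧
      (closureMat g).charpoly = ((semiExp 73 pairs73 k).map fun n => X - C (ω ^ n)).prod :=
  haveI : Fact (Nat.Prime 3) := ⟨by norm_num⟩
  haveI : Fact (Nat.Prime 73) := ⟨by norm_num⟩
  order_spectrum (w := 0) (by norm_num) (sylOK_of_chk cE8 chkSyl_E8_12) (by decide +kernel)
    card_factor_73 pairs73_eq hg hg1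

/-- An involution is conjugate to one of two torus involutions. -/
theorem involution_conj {F : Type*} [Field F] [Fintype F] (hodd : Odd (Fintype.card F))
    {g : ↥(chevE8.group F)} (hg : g * g = 1) (hg1 : g ≠ 1) :
    ∃ e, (e = 1 ∨ e = 3) ∧ ∃ y : GL chevE8.Idx F,
      (g : GL chevE8.Idx F) = y⁻¹ * torusHom chevE8 tblE8 F (sgnVec chevE8 F e) * y := by
  have hreps : ∀ e < 2 ^ chevE8.rank, e ≠ 0 →
      (invTorTblE8.getD e (0, [])).1 = 1 ∨ (invTorTblE8.getD e (0, [])).1 = 3 := by decide +kernel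
  obtain ⟨e, he, he0, y, -, hye⟩ := involution_conj_sgn cE8 fullCertE8 hodd inv_E8 invTorTblE8_ok
    (fun e he he0 => by
      rcases hreps e he he0 with h | h <;> rw [h]
      exacts [⟨_, _, centConn_of_sub cE8 fullCertE8 subOKE8_1⟩, ⟨_, _, centConn_of_sub cE8 fullCertE8 subOKE8_3⟩])
    g.2 (congrArg Subtype.val hg) fun h => hg1 (Subtype.ext h)
  refine ⟨(invTorTblE8.getD e (0, [])).1, hreps e he he0, y, ?_⟩
  rw [← hye]; group

set_option maxHeartbeats 1000000 in
/-- The eigenvalues of an involution, at a primitive fourth root of unity. -/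
theorem spectrum_2 {g : ↥(chevE8.group (ZMod 3))} (hg : g * g = 1) (hg1 : g ≠ 1)
    {i : AlgebraicClosure (ZMod 3)} (hi : i * i = -1) :
    ∃ e, (e = 1 ∨ e = 3) ∧
      (closureMat g).charpoly = ((invExp e).map fun n => X - C (i ^ n)).prod := by
  classical
  haveI : Fact (Nat.Prime 3) := ⟨by norm_num⟩
  have hodd : Odd (Fintype.card (ZMod 3)) := by rw [ZMod.card]; decide
  obtain ⟨e', he', y, hconj⟩ := involution_conj hodd hg hg1
  refine ⟨e', he', ?_⟩
  have hmap : closureMat g = (Matrix.GeneralLinearGroup.map (algebraMap (ZMod 3) (AlgebraicClosure (ZMod 3))) y⁻¹).val *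
      (((torusHom chevE8 tblE8 (ZMod 3) (sgnVec chevE8 (ZMod 3) e') : GL chevE8.Idx (ZMod 3)) :
        Matrix chevE8.Idx chevE8.Idx (ZMod 3)).map (algebraMap (ZMod 3) (AlgebraicClosure (ZMod 3)))) *
      (Matrix.GeneralLinearGroup.map (algebraMap (ZMod 3) (AlgebraicClosure (ZMod 3))) y).val := by
    rw [closureMat, hconj, Units.val_mul, Units.val_mul, Matrix.map_mul, Matrix.map_mul]
    rfl
  rw [hmap, map_inv, Matrix.coe_units_inv, Matrix.charpoly_units_conj', coe_torusHom, scal,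
    Matrix.diagonal_map (map_zero _), Matrix.charpoly_diagonal, Fintype.prod_sum_type, invExp,
    ← prod_exps i fun s => 2 * par e' s]
  refine congrArg₂ (· * ·) ?_ (Finset.prod_congr rfl fun s _ => ?_)
  · simp [show chevE8.rank = 8 from rfl]
  · refine congrArg (fun z : AlgebraicClosure (ZMod 3) => X - C z) ?_
    simp only [Sum.elim_inr, chr, map_prod, map_zpow₀, pow_mul, pow_two, hi]
    have hterm : ∀ j ∈ Finset.range chevE8.rank,
        algebraMap (ZMod 3) (AlgebraicClosure (ZMod 3)) (extend' (sgnVec chevE8 (ZMod 3) e') j) ^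
          tblE8.cartan j s =
        (-1) ^ (if Nat.testBit e' j then tblE8.cartan j s else 0) := by
      intro j hj
      rw [extend', dif_pos (Finset.mem_range.1 hj), sgnVec]
      split_ifs <;> simp
    rw [Finset.prod_congr rfl hterm, show chevE8.rank = 8 from rfl]
    have hz : ∀ (m : Finset ℕ) (n : ℕ → ℤ),
        ∏ j ∈ m, (-1 : AlgebraicClosure (ZMod 3)) ^ n j = (-1) ^ ∑ j ∈ m, n j := by
      intro m n
      induction m using Finset.induction with
      | empty => simp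
      | insert b t hb ih => rw [Finset.prod_insert hb, Finset.sum_insert hb, zpow_add₀ (by simp), ih]
    rw [hz, par, ← zpow_natCast, Int.toNat_of_nonneg (Int.emod_nonneg _ two_ne_zero)]
    conv_lhs => rw [← Int.emod_add_mul_ediv (∑ j ∈ Finset.range 8, _) 2, zpow_add₀ (by simp : (-1 : AlgebraicClosure (ZMod 3)) ≠ 0)]
    simp [zpow_mul]

end Cfsg.Lib.Chev.E8Spec
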