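import Cfsg.Agent.Lib.Chev.E8Spectrum.Data243
import Cfsg.Agent.Lib.Chev.E8Spectrum.Data729
import Mathlib.LinearAlgebra.Matrix.Charpoly.Basic

/-!
# No subgroup `PSL₂(3^f)` with forbidden spectra in `E₈(3)`
-/

set_option autoImplicit false

namespace Cfsg.Lib.Chev.E8Spec

open Cfsg.Lie Cfsg.Lib.Linear.TwistPower Polynomial Matrix
open scoped MatrixGroups

/-- The hypothesis that no sum of orbits has a spectrum of elements of order `2` and `r`. -/
def Excluded (f r : ℕ) [NeZero f] (B : List (ℕ × ℕ)) : Prop :=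
  ∀ (L : List ((Fin f → ℕ) × ℕ)), (∀ x ∈ L, IsOrbit 3 x ∧ Even (wsum 3 x.1)) →
    ∀ k ∈ cands r, ∀ e, (e = 1 ∨ e = 3) → ∀ i, Nat.Coprime i r →
      (∀ m, m < r →
        (L.flatMap (orbExp r 3)).count m = ((semiExp r B k).map fun n => i * n % r).count m) →
      (∀ m ∈ [0, 2], (L.flatMap (orbExp 4 3)).count m = (invExp e).count m) → False

theorem excluded11 : Excluded 5 11 pairs11 := fun L hL _ hk _ he _ hi hT hU =>
  no_orbits11 L hL hk he hi hT hU

theorem excluded73 : Excluded 6 73 pairs73 := fun L hL _ hk _ he _ hi hT hU =>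
  no_orbits73 L hL hk he hi hT hU

theorem invExp_lt (e : ℕ) : ∀ n ∈ invExp e, n < 4 := by
  intro n hn
  rcases List.mem_append.1 hn with h | h
  · rw [List.eq_of_mem_replicate h]; norm_num
  · obtain ⟨s, -, rfl⟩ := List.mem_map.1 h
    have : par e s < 2 := by
      rw [par, Int.toNat_lt (Int.emod_nonneg _ two_ne_zero)]
      exact Int.emod_lt_of_pos _ two_pos
    omega

/-- A primitive root of unity in a finite field. -/
theorem exists_primitive {K : Type*} [Field K] [Finite K] {n : ℕ} (hn : n ∣ Nat.card K - 1) :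
    ∃ ζ : K, IsPrimitiveRoot ζ n := by
  have := Fintype.ofFinite K
  obtain ⟨c, hc⟩ := IsCyclic.exists_generator (α := Kˣ)
  obtain ⟨m, hm⟩ := hn
  have h1 : IsPrimitiveRoot c (n * m) := by
    rw [← hm, ← Nat.card_units, ← orderOf_eq_card_of_forall_mem_zpowers hc]
    exact IsPrimitiveRoot.orderOf c
  have hpos : 0 < n * m := by
    rw [← hm, ← Nat.card_units]; exact Nat.card_pos
  exact ⟨((c ^ m : Kˣ) : K), IsPrimitiveRoot.coe_units_iff.2 (h1.pow hpos (mul_comm n m))⟩

set_option maxHeartbeats 1000000 in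
/-- An injective homomorphism from `PSL₂(3^f)` is impossible. -/
theorem no_injective_hom {F : Type*} [Field F] [Fintype F] {f N r : ℕ} [NeZero f]
    (hF : Fintype.card F = 3 ^ f) (hfN : f ∣ N) (hN : N ≠ 0) [hr : Fact r.Prime] (hr2 : r ≠ 2)
    (hr4 : r ∣ 3 ^ N - 1) (h4 : 4 ∣ 3 ^ N - 1) (hrq : r ∣ 3 ^ f - 1 ∨ r ∣ 3 ^ f + 1)
    {B : List (ℕ × ℕ)} (hspec : ∀ g : ↥(chevE8.group (ZMod 3)), g ^ r = 1 → g ≠ 1 →
      ∃ (ω : AlgebraicClosure (ZMod 3)) (k : ℕ × ℕ), IsPrimitiveRoot ω r ∧ k ∈ cands r ∧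
        (closureMat g).charpoly = ((semiExp r B k).map fun n => X - C (ω ^ n)).prod)
    (hex : Excluded f r B)
    (ψ : Matrix.ProjectiveSpecialLinearGroup (Fin 2) F →* ↥(chevE8.group (ZMod 3)))
    (hψ : Function.Injective ψ) : False := by
  classical
  haveI : Fact (Nat.Prime 3) := ⟨by norm_num⟩
  obtain ⟨p, hp⟩ := CharP.exists F
  obtain ⟨n, hprime, hn⟩ := FiniteField.card F p
  have hp3 : p = 3 := by
    have h3 : p ∣ 3 ^ f := by rw [← hF, hn]; exact dvd_pow_self p n.ne_zero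
    exact (Nat.prime_dvd_prime_iff_eq hprime (by norm_num)).1 (hprime.dvd_of_dvd_pow h3)
  subst hp3
  letI : Algebra (ZMod 3) F := ZMod.algebra F 3
  let K := GaloisField 3 N
  haveI : Fintype K := Fintype.ofFinite K
  have hK : Nat.card K = 3 ^ N := GaloisField.card 3 N hN
  have hfin : Module.finrank (ZMod 3) F = f := by
    have h := Module.card_eq_pow_finrank (K := ZMod 3) (V := F)
    rw [hF, ZMod.card] at h
    exact Nat.pow_right_injective (by norm_num : 2 ≤ 3) h.symm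
  obtain ⟨ιa⟩ := FiniteField.nonempty_algHom_of_finrank_dvd (F := ZMod 3) (K := F) (L := K)
    (by rw [hfin, GaloisField.finrank 3 hN]; exact hfN)
  let ι : F →+* K := ιa.toRingHom
  let κ : K →ₐ[ZMod 3] AlgebraicClosure (ZMod 3) := IsAlgClosed.lift
  let Φ : SL(2, F) →* ↥(chevE8.group (ZMod 3)) := ψ.comp (QuotientGroup.mk' _)
  have hΦ : ∀ g : SL(2, F), g.1 1 0 ≠ 0 → Φ g ≠ 1 := fun g hg h => by
    have h1 : QuotientGroup.mk' (Subgroup.center SL(2, F)) g = 1 := hψ (h.trans (map_one ψ).symm)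
    rw [QuotientGroup.mk'_apply, QuotientGroup.eq_one_iff,
      Matrix.SpecialLinearGroup.mem_center_iff] at h1
    obtain ⟨c, -, hc⟩ := h1
    apply hg
    rw [← hc]
    simp [Matrix.scalar_apply]
  have hneg : Φ (-1) = 1 := by
    have h1 : QuotientGroup.mk' (Subgroup.center SL(2, F)) (-1) = 1 := by
      rw [QuotientGroup.mk'_apply, QuotientGroup.eq_one_iff, Subgroup.mem_center_iff]
      intro g
      rw [neg_mul, mul_neg, one_mul, mul_one]
    show ψ _ = 1
    rw [h1, map_one]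
  let Mat : SL(2, F) →* Matrix chevE8.Idx chevE8.Idx K :=
    (Units.coeHom _).comp ((Matrix.GeneralLinearGroup.map (algebraMap (ZMod 3) K)).comp
      ((Subgroup.subtype _).comp Φ))
  let ρ : Representation K SL(2, F) (chevE8.Idx → K) :=
    { toFun := fun g => Matrix.toLin' (Mat g)
      map_one' := by rw [map_one, Matrix.toLin'_one]; rfl
      map_mul' := fun g h => by rw [map_mul, Matrix.toLin'_mul]; rfl }
  let σ : (chevE8.Idx → K) →+ (chevE8.Idx → K) :=
    AddMonoidHom.mk' (fun v j => v j ^ 3) fun u v => funext fun j => add_pow_char (u j) (v j) 3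
  have hfrob : ∀ x : ZMod 3, (algebraMap (ZMod 3) K x) ^ 3 = algebraMap (ZMod 3) K x := fun x => by
    rw [← map_pow, ZMod.pow_card]
  obtain ⟨L, hL, hchar⟩ := charpoly_eq ι hF hK hfN (by norm_num) ρ σ
    (by show Matrix.toLin' (Mat (-1)) = 1
        simp only [Mat, MonoidHom.comp_apply, hneg, map_one, Matrix.toLin'_one]
        rfl)
    (fun c v => funext fun j => mul_pow c (v j) 3)
    (fun g v => funext fun j => by
      show (Matrix.toLin' (Mat g) v j) ^ 3 = Matrix.toLin' (Mat g) (σ v) j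
      simp only [Matrix.toLin'_apply, Matrix.mulVec, dotProduct, ← frobenius_def, map_sum, map_mul]
      refine Finset.sum_congr rfl fun k _ => ?_
      rw [frobenius_def, frobenius_def]
      exact congrArg (· * _) (hfrob _))
    (fun v => by
      have h : ∀ m, σ^[m] v = fun j => v j ^ 3 ^ m := fun m => by
        induction m with
        | zero => simp
        | succ m ih =>
          rw [Function.iterate_succ_apply', ih]
          funext j
          show (v j ^ 3 ^ m) ^ 3 = _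
          rw [← pow_mul, pow_succ]
      rw [h]
      funext j
      rw [← hK, Nat.card_eq_fintype_card, FiniteField.pow_card])
  have hmat : ∀ g, closureMat (Φ g) = (Mat g).map κ := fun g => by
    ext i j
    exact (κ.commutes _).symm
  -- exponents on both sides
  have hside : ∀ (g : SL(2, F)) (ζ : K) (n : ℕ) (α β γ δ : K), IsPrimitiveRoot ζ n → 0 < n →
      α * δ - β * γ ≠ 0 → act g (lin ι α β) = ζ • lin ι α β →
      act g (lin ι γ δ) = ζ⁻¹ • lin ι γ δ →
      (closureMat (Φ g)).charpoly =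
        ((L.flatMap (orbExp n 3)).map fun e => X - C (κ ζ ^ e)).prod := by
    intro g ζ n α β γ δ hζ hn hd h1 h2
    have hinv : ζ⁻¹ = ζ ^ (n - 1) := inv_eq_of_mul_eq_one_right (by
      rw [← pow_succ', Nat.sub_add_cancel hn, hζ.pow_eq_one])
    have h := hchar g α β γ δ ζ (ζ ^ (n - 1)) hd h1 (hinv ▸ h2)
    rw [List.map_congr_left fun x _ => orbPoly_eq (N := n) ζ hζ.pow_eq_one x,
      prod_flatMap_map] at h
    rw [hmat, show (Mat g).map κ = (Mat g).map κ.toRingHom from rfl, Matrix.charpoly_map,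
      ← Matrix.charpoly_toLin' (Mat g), show Matrix.toLin' (Mat g) = ρ g from rfl, h,
      Polynomial.map_list_prod, List.map_map]
    refine congrArg List.prod (List.map_congr_left fun e _ => ?_)
    simp
  -- the element of order r
  obtain ⟨ζ, hζ⟩ := exists_primitive (K := K) (n := r) (hK ▸ hr4)
  obtain ⟨ζ4, hζ4⟩ := exists_primitive (K := K) (n := 4) (hK ▸ h4)
  have hζ0 : ζ ≠ 0 := hζ.ne_zero hr.out.ne_zero
  have hζ2 : ζ ^ 2 ≠ 1 := fun h =>
    hr2 ((Nat.prime_dvd_prime_iff_eq hr.out Nat.prime_two).1 (hζ.dvd_of_pow_eq_one 2 h))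
  have hs : (ζ + ζ⁻¹) ^ 3 ^ f = ζ + ζ⁻¹ := by
    rw [add_pow_char_pow, inv_pow]
    have hpos : 1 ≤ 3 ^ f := Nat.one_le_pow _ _ (by norm_num)
    rcases hrq with h | h
    · rw [show ζ ^ 3 ^ f = ζ from by
        rw [← Nat.sub_add_cancel hpos, pow_succ, (hζ.pow_eq_one_iff_dvd _).2 h, one_mul]]
    · rw [show ζ ^ 3 ^ f = ζ⁻¹ from eq_inv_of_mul_eq_one_left (by
        rw [← pow_succ, (hζ.pow_eq_one_iff_dvd _).2 h]), inv_inv, add_comm]
  letI : Algebra F K := ι.toAlgebra
  obtain ⟨s, hs⟩ : ∃ s : F, ι s = ζ + ζ⁻¹ :=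
    (Cfsg.Lib.Chev.pow_card_fixed (F := F) (L := K) _).1 (by rw [hF]; exact hs)
  have hgr : Φ (comp s) ^ r = 1 := by
    rw [← map_pow, comp_pow ι hζ2 hζ0 hs hζ.pow_eq_one, map_one]
  obtain ⟨ω, k, hω, hk, hωchar⟩ := hspec _ hgr (hΦ _ (by rw [comp_one_zero]; exact one_ne_zero))
  have hκζ : IsPrimitiveRoot (κ ζ) r := hζ.map_of_injective κ.injective
  haveI : NeZero r := ⟨hr.out.ne_zero⟩
  obtain ⟨i, hir, hi⟩ := hκζ.eq_pow_of_pow_eq_one hω.pow_eq_one
  have hicop : Nat.Coprime i r := (hκζ.pow_iff_coprime hr.out.pos i).1 (hi ▸ hω)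
  -- the involution
  have hζ40 : ζ4 ≠ 0 := hζ4.ne_zero (by norm_num)
  have hζ42 : ζ4 * ζ4 = -1 := by
    have h := hζ4.pow (by norm_num) (show 4 = 2 * 2 from rfl)
    rw [pow_two] at h
    exact h.eq_neg_one_of_two_right
  have hs4 : ι 0 = ζ4 + ζ4⁻¹ := by
    rw [map_zero, show ζ4⁻¹ = -ζ4 from inv_eq_of_mul_eq_one_right (by rw [mul_neg, hζ42, neg_neg]),
      add_neg_cancel]
  have hζ41 : ζ4 ^ 2 ≠ 1 := fun h => by
    have := Nat.le_of_dvd (by norm_num) (hζ4.dvd_of_pow_eq_one 2 h)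
    omega
  obtain ⟨e, he, hechar⟩ := spectrum_2 (g := Φ (comp 0)) (by rw [← map_mul, comp_zero_sq, hneg])
    (hΦ _ (by rw [comp_one_zero]; exact one_ne_zero)) (i := κ ζ4)
    (by rw [← map_mul, hζ42, map_neg, map_one])
  refine hex L hL k hk e he i hicop (fun m hm => ?_) (fun m hm => ?_)
  · refine count_eq hκζ ?_ ?_ ?_ hm
    · intro n hn
      obtain ⟨x, -, hx⟩ := List.mem_flatMap.1 hn
      exact orbExp_lt hr.out.one_lt x n hx
    · intro n hn
      obtain ⟨x, -, rfl⟩ := List.mem_map.1 hn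
      exact Nat.mod_lt _ hr.out.pos
    · rw [← hside (comp s) ζ r _ _ _ _ hζ hr.out.pos (comp_det hζ2 hζ0) (comp_eigen ι hζ0 hs)
        (comp_eigen_inv ι hζ0 hs), hωchar, List.map_map]
      refine congrArg List.prod (List.map_congr_left fun n _ => ?_)
      simp only [Function.comp_apply]
      rw [← hi, ← pow_mul, pow_eq_pow_mod _ hκζ.pow_eq_one]
  · refine count_eq (hζ4.map_of_injective (f := κ) κ.injective) ?_ (invExp_lt e) ?_
      ((by decide : ∀ m ∈ ([0, 2] : List ℕ), m < 4) m hm)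
    · intro n hn
      obtain ⟨x, -, hx⟩ := List.mem_flatMap.1 hn
      exact orbExp_lt (by norm_num) x n hx
    · rw [← hside (comp 0) ζ4 4 _ _ _ _ hζ4 (by norm_num) (comp_det hζ41 hζ40)
        (comp_eigen ι hζ40 hs4) (comp_eigen_inv ι hζ40 hs4), hechar]

end Cfsg.Lib.Chev.E8Spec
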