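import Cfsg.Agent.Lib.Chev.SylowTorus

/-!
# Eigenvalues of semisimple elements of prime order from twisted tori

The homocyclic subgroups from the eigenvector data, together with the eigenvalues of their
elements on the adjoint module.
-/

set_option autoImplicit false
set_option linter.unusedSectionVars false

namespace Cfsg.Lib.Chev

open Cfsg.Lie

variable {D : ChevalleyDatum} {T : Tbl} (C : Cert D T) {S : SylTor} {a : ℕ} (K : FullCert D T)
include C K

set_option maxHeartbeats 800000 in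
/-- A homocyclic subgroup from the eigenvectors with the eigenvalues of its elements. -/
theorem exists_homocyclic_spectrum {F : Type*} [Field F] [Fintype F] {q : ℕ} (hF : Fintype.card F = q) {r v : ℕ}
    (hr : r.Prime) (hrq : ¬ r ∣ q) {Mi : Matrix (Fin D.rank) (Fin D.rank) ℤ} {e : ℕ}
    (hMi : Mi * cartanMat D T = Matrix.diagonal fun _ => ((e : ℕ) : ℤ)) (hre : ¬ r ∣ e) (hS : SylOK D T a S)
    (hval : ((r ^ v : ℕ) : ℤ) ∣ S.val q) :
    ∃ (φ : (Fin a → Multiplicative (ZMod (r ^ v))) →* ↥(D.group F)) (ζ : AlgebraicClosure F),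
      Function.Injective φ ∧ IsPrimitiveRoot ζ (r ^ v) ∧ ∀ y,
        ((((φ y : ↥(D.group F)) : GL D.Idx F) : Matrix D.Idx D.Idx F).map
            (algebraMap F (AlgebraicClosure F))).charpoly =
          (Polynomial.X - Polynomial.C 1) ^ D.rank * ∏ s : Fin D.nroots, (Polynomial.X - Polynomial.C
            (∏ i, (ζ ^ (Multiplicative.toAdd (y i)).val) ^ S.bval T q i s)) := by
  classical
  obtain ⟨p, hp⟩ := CharP.exists F
  obtain ⟨f, hprime, hq⟩ := FiniteField.card F p
  have := Fact.mk hprime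
  let L := AlgebraicClosure F
  have : CharP L p := charP_of_injective_algebraMap (algebraMap F L).injective p
  set σ := iterateFrobenius L p (f : ℕ) with hσdef
  have hσ : ∀ x : L, σ x = x ^ Fintype.card F := fun x => by rw [hσdef, iterateFrobenius_def, hq]
  have hm0 : r ^ v ≠ 0 := pow_ne_zero _ hr.ne_zero
  have : NeZero (r ^ v) := ⟨hm0⟩
  have : NeZero ((r ^ v : ℕ) : L) := ⟨fun h => by
    rw [CharP.cast_eq_zero_iff L p] at h
    have h1 := (Nat.prime_dvd_prime_iff_eq hprime hr).1 (hprime.dvd_of_dvd_pow h)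
    subst h1
    exact hrq (by rw [← hF, hq]; exact dvd_pow_self p f.ne_zero)⟩
  obtain ⟨ζ, hζ⟩ := HasEnoughRootsOfUnity.exists_primitiveRoot L (r ^ v)
  let u : Lˣ := Units.mk0 ζ (hζ.ne_zero hm0)
  have hu : u ^ (r ^ v) = 1 := Units.ext (by simpa [u] using hζ.pow_eq_one)
  let χ : Multiplicative (ZMod (r ^ v)) →* Lˣ :=
    { toFun := fun y => u ^ (Multiplicative.toAdd y).val
      map_one' := by simp
      map_mul' := fun x y => by
        rw [toAdd_mul, ZMod.val_add, ← pow_eq_pow_mod _ hu, pow_add] }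
  have hχm : ∀ y, χ y ^ (r ^ v) = 1 := fun y => by
    show (u ^ _) ^ (r ^ v) = 1
    rw [← pow_mul, mul_comm, pow_mul, hu, one_pow]
  have hχinj : ∀ y, χ y = 1 → y = 1 := fun y hy => by
    have h1 : ζ ^ (Multiplicative.toAdd y).val = 1 := by simpa [u, χ] using congrArg Units.val hy
    have h2 := Nat.eq_zero_of_dvd_of_lt (hζ.dvd_of_pow_eq_one _ h1) (ZMod.val_lt _)
    exact toAdd_eq_zero.1 ((ZMod.val_eq_zero _).1 h2)
  let ψ : (Fin a → Multiplicative (ZMod (r ^ v))) →* (Fin D.rank → Lˣ) :=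
    { toFun := fun y j => ∏ i, χ (y i) ^ S.xval q i j
      map_one' := funext fun j => by simp
      map_mul' := fun x y => funext fun j => by simp [mul_zpow, Finset.prod_mul_distrib] }
  have hψm : ∀ y, ψ y ^ (r ^ v) = 1 := fun y => funext fun j => by
    show (∏ i, χ (y i) ^ S.xval q i j) ^ (r ^ v) = 1
    rw [← Finset.prod_pow]
    refine Finset.prod_eq_one fun i _ => ?_
    rw [← zpow_natCast, ← zpow_mul, mul_comm, zpow_mul, zpow_natCast, hχm, one_zpow]
  have hchr : ∀ y s, uchr C (ψ y) s = ∏ i, χ (y i) ^ S.bval T q i s := by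
    intro y s
    show ∏ j : Fin D.rank, (∏ i, χ (y i) ^ S.xval q i j) ^ T.cartan j s = _
    have e1 : ∀ j : Fin D.rank, (∏ i : Fin a, χ (y i) ^ S.xval q i j) ^ T.cartan j s =
        ∏ i : Fin a, χ (y i) ^ (S.xval q i j * T.cartan j s) := fun j => by
      rw [← zpowGroupHom_apply (α := Lˣ), map_prod]
      exact Finset.prod_congr rfl fun i _ => by rw [zpowGroupHom_apply, zpow_mul]
    rw [Finset.prod_congr rfl fun j _ => e1 j]
    rw [Finset.prod_comm]
    refine Finset.prod_congr rfl fun i _ => ?_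
    rw [bval_eq C, ← Fin.sum_univ_eq_sum_range (fun j => S.xval q i j * T.cartan j s) D.rank]
    induction (Finset.univ : Finset (Fin D.rank)) using Finset.induction with
    | empty => simp
    | insert b t hb ih => rw [Finset.prod_insert hb, Finset.sum_insert hb, zpow_add, ih]
  have hstep : ∀ y, ∀ s < D.nroots, uchr C (ψ y) (wperm T S.w s) = uchr C (ψ y) s ^ q := by
    intro y s hs
    rw [hchr, hchr, ← Finset.prod_pow]
    refine Finset.prod_congr rfl fun i _ => ?_
    rw [bval_step C hS q i.2 hs, zpow_sub, mul_comm (q : ℤ), zpow_mul _ _ (q : ℤ), zpow_natCast]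
    obtain ⟨k, hk⟩ := hval
    rw [hk, show S.bc T i s (S.phi.length - 1) * (((r ^ v : ℕ) : ℤ) * k) =
      ((r ^ v : ℕ) : ℤ) * (S.bc T i s (S.phi.length - 1) * k) by ring, zpow_mul, zpow_natCast, hχm, one_zpow,
      inv_one, mul_one]
  have hinj : ∀ y, torusHom D T L (ψ y) = 1 → y = 1 := by
    intro y hy
    have hk : ψ y ∈ (torusHom D T L).ker := hy
    rw [torusHom_ker C, MonoidHom.mem_ker] at hk
    have h2 : powHom (Mi * cartanMat D T) (ψ y) = 1 := by rw [powHom_mul, MonoidHom.comp_apply, hk, map_one]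
    rw [hMi] at h2
    have hone : ψ y = 1 := funext fun j => by
      have h3 := congrFun h2 j
      rw [powHom_diagonal (fun _ => e)] at h3
      have h5 : (ψ y) j ^ (r ^ v) = 1 := congrFun (hψm y) j
      have h4 := pow_gcd_eq_one.2 ⟨h3, h5⟩
      rwa [(Nat.Coprime.pow_right v ((hr.coprime_iff_not_dvd.2 hre).symm)).gcd_eq_one, pow_one] at h4
    funext i
    refine hχinj _ ?_
    have h4 := congrFun hone ⟨nth 0 S.piv i, hS.piv_lt i i.2⟩
    change ∏ i', χ (y i') ^ S.xval q i' (nth 0 S.piv i) = 1 at h4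
    rw [Finset.prod_eq_single i (fun i' _ hne => ?_) (by simp)] at h4
    · rwa [show S.xval q i (nth 0 S.piv i) = 1 by
        rw [SylTor.xval, Finset.sum_eq_single 0
          (fun k hk hk0 => by rw [hS.unit i i.2 i i.2 k (Finset.mem_range.1 hk), if_neg (by simp [hk0]), zero_mul])
          (fun h => absurd (Finset.mem_range.2 hS.len_pos) h), hS.unit i i.2 i i.2 0 hS.len_pos, if_pos ⟨rfl, rfl⟩,
          pow_zero, one_mul], zpow_one] at h4
    · rw [show S.xval q i' (nth 0 S.piv i) = 0 from Finset.sum_eq_zero fun k hk => by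
        rw [hS.unit i i.2 i' i'.2 k (Finset.mem_range.1 hk), if_neg (fun h => hne (Fin.ext h.1)), zero_mul], zpow_zero]
  set n := wnu C L S.w with hn
  obtain ⟨g, hg, hgn⟩ := lang_chev C K (p := p) (f := (f : ℕ)) (by rw [← hq]; exact Fintype.one_lt_card)
    (1 : GL D.Idx L) (fun x hx => by simpa using hx) (monomial_le_group C (wnu_mem C hS.isWord) : n ∈ D.group L)
  have hσg : Matrix.GeneralLinearGroup.map σ g = g * n := by
    rw [← hgn, hσdef]; group
  let Ψ : (Fin a → Multiplicative (ZMod (r ^ v))) →* GL D.Idx L :=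
    (MulAut.conj g).toMonoidHom.comp ((torusHom D T L).comp ψ)
  have hΨinj : Function.Injective Ψ := by
    rw [injective_iff_map_eq_one]
    intro y hy
    exact hinj y ((MulAut.conj g).map_eq_one_iff.1 hy)
  let ι := Matrix.GeneralLinearGroup.map (n := D.Idx) (algebraMap F L)
  have hmem : ∀ y, Ψ y ∈ (D.group F).map ι := by
    intro y
    have hG : torusHom D T L (ψ y) ∈ D.group L :=
      monomial_le_group C (diag_le_monomial C (by rw [← torusHom_range C]; exact ⟨_, rfl⟩))
    refine descend_coprime C K σ hσ hMi (m := r ^ v)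
      (Nat.Coprime.pow_right v ((hr.coprime_iff_not_dvd.2 hre).symm))
      (mul_mem (mul_mem hg hG) (inv_mem hg)) ?_ ?_
    · show Matrix.GeneralLinearGroup.map σ (g * torusHom D T L (ψ y) * g⁻¹) = _
      obtain ⟨e', he', hchr'⟩ := torus_word_conj C hS.isWord (fun i => Units.map σ.toMonoidHom (ψ y i))
      have hnh : n * Matrix.GeneralLinearGroup.map σ (torusHom D T L (ψ y)) * n⁻¹ = torusHom D T L (ψ y) := by
        rw [map_torusHom C, he']
        refine torusHom_congr fun s hs => ?_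
        have hs' := wperm_lt C hS.isWord.reverse hs
        have hrev := wperm_reverse C hS.isWord.reverse hs
        rw [List.reverse_reverse] at hrev
        rw [← hrev, hchr' _ hs', ← coe_uchr C, ← coe_uchr C, hstep y _ hs', Units.val_pow_eq_pow_val, ← hF, ← hσ,
          coe_uchr C, coe_uchr C]
        simp only [chr, map_prod, map_zpow₀]
        refine Finset.prod_congr rfl fun j hj => ?_
        simp [extend', Finset.mem_range.1 hj]
      rw [map_mul, map_mul, map_inv, hσg]
      calc g * n * Matrix.GeneralLinearGroup.map σ (torusHom D T L (ψ y)) * (g * n)⁻¹ =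
          g * (n * Matrix.GeneralLinearGroup.map σ (torusHom D T L (ψ y)) * n⁻¹) * g⁻¹ := by group
        _ = _ := by rw [hnh]; rfl
    · show Ψ y ^ (r ^ v) = 1
      rw [← map_pow, show y ^ (r ^ v) = 1 from funext fun i => toAdd_eq_zero.1 (by simp), map_one]
  have hrangele : Ψ.range ≤ (D.group F).map ι := by rintro _ ⟨y, rfl⟩; exact hmem y
  let E := Subgroup.equivMapOfInjective (D.group F) ι (map_gl_injective _)
  refine ⟨E.symm.toMonoidHom.comp (Ψ.codRestrict _ hmem), ζ, E.symm.injective.comp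
    fun x y h => hΨinj (congrArg Subtype.val h), hζ, fun y => ?_⟩
  have hy : ι ((E.symm (⟨Ψ y, hmem y⟩) : ↥(D.group F)) : GL D.Idx F) = Ψ y :=
    congrArg Subtype.val (E.apply_symm_apply ⟨Ψ y, hmem y⟩)
  have hy' : (((E.symm (⟨Ψ y, hmem y⟩) : ↥(D.group F)) : GL D.Idx F) : Matrix D.Idx D.Idx F).map
      (algebraMap F L) = (Ψ y : GL D.Idx L).val := congrArg Units.val hy
  show ((((E.symm (⟨Ψ y, hmem y⟩) : ↥(D.group F)) : GL D.Idx F) : Matrix D.Idx D.Idx F).map
    (algebraMap F L)).charpoly = _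
  rw [hy', show (Ψ y : GL D.Idx L) = g * torusHom D T L (ψ y) * g⁻¹ from rfl, Units.val_mul,
    Units.val_mul, Matrix.coe_units_inv, Matrix.charpoly_units_conj, coe_torusHom, scal, Matrix.charpoly_diagonal,
    Fintype.prod_sum_type]
  simp only [Sum.elim_inl, Sum.elim_inr, Finset.prod_const, Finset.card_univ, Fintype.card_fin]
  refine congrArg₂ (· * ·) rfl (Finset.prod_congr rfl fun s _ => ?_)
  rw [← coe_uchr C, hchr, Units.coe_prod]
  refine congrArg (fun z => Polynomial.X - Polynomial.C z) (Finset.prod_congr rfl fun i _ => ?_)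
  rw [Units.val_zpow_eq_zpow_val]
  rfl

set_option maxHeartbeats 800000 in
/-- The eigenvalues of an element of prime order with homocyclic Sylow subgroups. -/
theorem spectrum_of_order {F : Type*} [Field F] [Fintype F] {q : ℕ} (hF : Fintype.card F = q) {r w : ℕ}
    [hr : Fact r.Prime] (hrq : ¬ r ∣ q) {Mi : Matrix (Fin D.rank) (Fin D.rank) ℤ} {e : ℕ}
    (hMi : Mi * cartanMat D T = Matrix.diagonal fun _ => ((e : ℕ) : ℤ)) (hre : ¬ r ∣ e) (hS : SylOK D T a S)
    (hval : ((r ^ (w + 1) : ℕ) : ℤ) ∣ S.val q)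
    (hord : (Nat.card ↥(D.group F)).factorization r = a * (w + 1))
    {g : ↥(D.group F)} (hg : g ^ r = 1) (hg1 : g ≠ 1) :
    ∃ (ω : AlgebraicClosure F) (k : Fin a → Fin r), IsPrimitiveRoot ω r ∧ (∃ i, (k i : ℕ) ≠ 0) ∧
      ((((g : ↥(D.group F)) : GL D.Idx F) : Matrix D.Idx D.Idx F).map
          (algebraMap F (AlgebraicClosure F))).charpoly =
        (Polynomial.X - Polynomial.C 1) ^ D.rank * ∏ s : Fin D.nroots, (Polynomial.X - Polynomial.C
          (ω ^ ((∑ i, ((k i : ℕ) : ℤ) * S.bval T q i s) % (r : ℤ)).toNat)) := by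
  classical
  obtain ⟨φ, ζ, hφ, hζ, hchar⟩ := exists_homocyclic_spectrum C K hF hr.out hrq hMi hre hS hval
  haveI : NeZero (r ^ (w + 1)) := ⟨pow_ne_zero _ hr.out.ne_zero⟩
  have hc : Nat.card ↥φ.range = r ^ (Nat.card ↥(D.group F)).factorization r := by
    rw [Nat.card_congr (MonoidHom.ofInjective hφ).toEquiv.symm, Nat.card_pi, hord, Finset.prod_const,
      Finset.card_univ, Fintype.card_fin, Nat.card_congr (Multiplicative.toAdd), Nat.card_zmod, ← pow_mul, mul_comm]
  let Q := Sylow.ofCard φ.range hc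
  obtain ⟨P, hP⟩ := IsPGroup.exists_le_sylow (G := ↥(D.group F)) (P := Subgroup.zpowers g) (p := r) (by
    intro x
    refine ⟨1, Subtype.ext ?_⟩
    obtain ⟨n, hn⟩ := Subgroup.mem_zpowers_iff.1 x.2
    rw [pow_one, SubmonoidClass.coe_pow, ← hn, ← zpow_natCast, ← zpow_mul, mul_comm, zpow_mul,
      zpow_natCast, hg, one_zpow]
    rfl)
  obtain ⟨x, hx⟩ := MulAction.exists_smul_eq ↥(D.group F) P Q
  have hmem : x * g * x⁻¹ ∈ φ.range := by
    have h : x * g * x⁻¹ ∈ (Q : Subgroup ↥(D.group F)) := by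
      rw [← hx, Sylow.coe_subgroup_smul]
      exact ⟨g, hP (Subgroup.mem_zpowers g), rfl⟩
    exact h
  obtain ⟨y, hy⟩ := hmem
  have hy1 : y ^ r = 1 := hφ (by rw [map_pow, hy, conj_pow, hg, mul_one, mul_inv_cancel, map_one])
  have hy0 : y ≠ 1 := fun h => hg1 (conj_eq_one_iff.1 (by rw [← hy, h, map_one]))
  have hdiv : ∀ i, r ^ w ∣ (Multiplicative.toAdd (y i)).val := fun i => by
    have h1 := congrArg Multiplicative.toAdd (congrFun hy1 i)
    rw [Pi.pow_apply, toAdd_pow, Pi.one_apply, toAdd_one, nsmul_eq_mul,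
      ← ZMod.natCast_zmod_val (Multiplicative.toAdd (y i)), ← Nat.cast_mul,
      ZMod.natCast_eq_zero_iff] at h1
    exact Nat.dvd_of_mul_dvd_mul_left hr.out.pos ((pow_succ' r w).symm.dvd.trans h1)
  choose k hk using hdiv
  have hklt : ∀ i, k i < r := fun i => by
    have h := ZMod.val_lt (Multiplicative.toAdd (y i))
    rw [hk i, pow_succ] at h
    exact Nat.lt_of_mul_lt_mul_left h
  have hω : IsPrimitiveRoot (ζ ^ r ^ w) r := hζ.pow (Nat.pos_of_ne_zero (NeZero.ne _)) (pow_succ r w)
  refine ⟨ζ ^ r ^ w, fun i => ⟨k i, hklt i⟩, hω, ?_, ?_⟩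
  · by_contra h
    push Not at h
    refine hy0 (funext fun i => toAdd_eq_zero.1 ((ZMod.val_eq_zero _).1 ?_))
    rw [hk i, show k i = 0 from h i, mul_zero]
  · have hconj : (((g : ↥(D.group F)) : GL D.Idx F) : Matrix D.Idx D.Idx F).map
        (algebraMap F (AlgebraicClosure F)) =
        (Matrix.GeneralLinearGroup.map (algebraMap F (AlgebraicClosure F)) (x : GL D.Idx F)⁻¹).val *
          ((((φ y : ↥(D.group F)) : GL D.Idx F) : Matrix D.Idx D.Idx F).map
            (algebraMap F (AlgebraicClosure F))) *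
          (Matrix.GeneralLinearGroup.map (algebraMap F (AlgebraicClosure F)) (x : GL D.Idx F)).val := by
      have h : (g : GL D.Idx F) = (x : GL D.Idx F)⁻¹ * (φ y : GL D.Idx F) * (x : GL D.Idx F) := by
        rw [hy]; push_cast; group
      rw [h, Units.val_mul, Units.val_mul, Matrix.map_mul, Matrix.map_mul]
      rfl
    rw [hconj, map_inv, Matrix.coe_units_inv, Matrix.charpoly_units_conj', hchar]
    refine congrArg₂ (· * ·) rfl (Finset.prod_congr rfl fun s _ => ?_)
    refine congrArg (fun z : AlgebraicClosure F => Polynomial.X - Polynomial.C z) ?_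
    have h0 : ζ ^ r ^ w ≠ 0 := hω.ne_zero hr.out.ne_zero
    rw [← zpow_natCast (ζ ^ r ^ w), Int.toNat_of_nonneg (Int.emod_nonneg _ (by
      exact_mod_cast hr.out.ne_zero))]
    have hm : ∀ n : ℤ, (ζ ^ r ^ w) ^ (n % (r : ℤ)) = (ζ ^ r ^ w) ^ n := fun n => by
      conv_rhs => rw [← Int.emod_add_mul_ediv n r, zpow_add₀ h0, zpow_mul, zpow_natCast,
        hω.pow_eq_one, one_zpow, mul_one]
    rw [hm]
    induction (Finset.univ : Finset (Fin a)) using Finset.induction with
    | empty => simp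
    | insert b t hb ih =>
      rw [Finset.prod_insert hb, Finset.sum_insert hb, zpow_add₀ h0, ih, zpow_mul, zpow_natCast,
        hk b, pow_mul]

end Cfsg.Lib.Chev
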